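import Cfsg.Agent.SylowAbelian.Finish
import Cfsg.Agent.ReeAbelian.Columns
import Cfsg.Agent.JankoOne.Iso.Main
import Cfsg.Agent.S0252
import Cfsg.Agent.S0253
import Cfsg.Agent.S1644

/-!
Simple groups all of whose Sylow subgroups are abelian.
-/

set_option autoImplicit false
set_option linter.unusedSectionVars false
set_option linter.style.haveILetI false

namespace Cfsg.Lib.SylowAb

open Subgroup

universe u

/-- Janko–Ree type with abelian Sylow subgroups: `E = PSL(2, 5)`. -/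
theorem five : ∀ (N : ℕ) {G : Type u} [Group G] [Finite G] {t : G} {E E₀ : Subgroup G} {F : Type} [Field F]
    [Fintype F], Nat.card G < N → Cfg t E E₀ F → E₀ = E ∧ Fintype.card F = 5 := by
  intro N
  induction N with
  | zero => intro G _ _ t E E₀ F _ _ h; omega
  | succ N ih =>
    intro G _ _ t E E₀ F _ _ hN c
    classical
    obtain ⟨p, d, hp, hd, hF⟩ : ∃ p d : ℕ, p.Prime ∧ 1 ≤ d ∧ Fintype.card F = p ^ d := by
      obtain ⟨n, hp, hn⟩ := FiniteField.card F (ringChar F)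
      exact ⟨_, _, hp, n.2, hn⟩
    haveI := Fact.mk hp
    haveI : CharP F p := charP_of_card_eq_prime_pow hF
    letI : Algebra (ZMod p) F := ZMod.algebra F p
    haveI := c.simple
    by_cases hm : E₀.relIndex E = 1
    · have hE : E₀ = E := le_antisymm c.hyp.le (relIndex_eq_one.1 hm)
      refine ⟨hE, ?_⟩
      by_contra hne
      subst hE
      have hbig : 11 ≤ Fintype.card F := by have := c.modq; have := c.five; omega
      haveI : Fact (Nat.Prime 3) := ⟨Nat.prime_three⟩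
      have B := ReeAb.Base.of_setting (⟨c.simple, c.nab, c.two_comm, c.hyp, c.modq, hbig⟩ : Ree.Setting t E₀ F)
      letI := Fintype.ofFinite G
      exact B.not_abelian_three fun P => c.ab 3 Nat.prime_three P
    exfalso
    obtain ⟨f⟩ := c.hyp.iso
    obtain ⟨σ, s, r, D⟩ := c.exists_data hd hF f hm
    obtain ⟨T, a, b, n, S⟩ := D.exists_frame
    by_cases hsmall : Nat.card (fixF p σ) = 3 ∨ Nat.card (fixF p σ) = 5
    · exact D.false_of_small S (D.smallPrimes S hsmall)
    -- the quotient has a simple subgroup of Janko–Ree type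
    have h8 : Nat.card (fixF p σ) % 8 = 3 ∨ Nat.card (fixF p σ) % 8 = 5 := by rw [D.fix_mod]; exact c.modq
    have h3 := D.three_le_fix
    obtain ⟨iF, hH⟩ := D.hypQ S
    obtain ⟨a', b', n', hS, -⟩ := D.sysQ S
    have h5 : 5 ≤ Fintype.card (fixF p σ) := by rw [← Nat.card_eq_fintype_card]; omega
    obtain ⟨hs, hna, -, hK⟩ := (D.cell S).simple_of_hyp hH h5 hS
    have cK := Cfg.mk hs hna (fun q hq P => ⟨⟨fun x y => Subtype.ext (Subtype.ext
        (D.cent_le_of_pgroup_quot hq (P.2.map (invSub (CQ s)).subtype) ⟨_, x.2, rfl⟩ ⟨_, y.2, rfl⟩).eq)⟩⟩)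
      h5 (by rw [← Nat.card_eq_fintype_card]; exact h8) hK
    have hlt : Nat.card ↥(invSub (CQ s)) < N := by
      have h1 := card_le_card_group (invSub (CQ s))
      have h2 := D.card_quot_lt
      omega
    obtain ⟨-, h55⟩ := ih hlt cK
    rw [← Nat.card_eq_fintype_card] at h55
    exact hsmall (Or.inr h55)

/-- The statement of row 2554. -/
theorem classify {G : Type*} [Group G] [Finite G] [IsSimpleGroup G] (hna : ¬ IsMulCommutative G)
    (hA : ∀ (p : ℕ), p.Prime → ∀ (P : Sylow p G), IsMulCommutative ↥P) :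
    Cfsg.Spor.IsoJ1 G ∨
      ∃ (F : Type) (_ : Field F) (_ : Fintype F), 3 < Fintype.card F ∧
        (Fintype.card F % 8 = 0 ∨ Fintype.card F % 8 = 3 ∨ Fintype.card F % 8 = 5) ∧
        Nonempty (G ≃* Matrix.ProjectiveSpecialLinearGroup (Fin 2) F) := by
  have hab : Walter.AbTwo G := fun S x hx y hy =>
    congrArg Subtype.val ((hA 2 Nat.prime_two S).is_comm.comm ⟨x, hx⟩ ⟨y, hy⟩)
  rcases Walter.walterProp G hna hab with ⟨F, iF, iT, ⟨m, hm, hF⟩, ⟨e⟩⟩ | ⟨F, iF, iT, h8, h5, he⟩ |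
    ⟨-, t, E, E₀, F, iF, iT, h5, h8, hH⟩
  · right
    by_cases hm2 : m = 2
    · subst hm2
      haveI : Fact (Nat.Prime 5) := ⟨by norm_num⟩
      obtain ⟨g₄⟩ := Cfsg.Agent.S0252.result (F := F) (by rw [hF]; norm_num)
      obtain ⟨g₅⟩ := Cfsg.Agent.S0253.result (F := ZMod 5) (ZMod.card 5)
      exact ⟨ZMod 5, inferInstance, inferInstance, by rw [ZMod.card]; norm_num, by rw [ZMod.card]; norm_num,
        ⟨(e.trans g₄).trans g₅.symm⟩⟩
    · refine ⟨F, iF, iT, ?_, Or.inl ?_, ⟨e⟩⟩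
      · have : 2 ^ 2 ≤ 2 ^ m := Nat.pow_le_pow_right two_pos hm
        omega
      · obtain ⟨j, rfl⟩ : ∃ j, m = 3 + j := ⟨m - 3, by omega⟩
        rw [hF, pow_add]
        norm_num
  · exact Or.inr ⟨F, iF, iT, by omega, Or.inr h8, he⟩
  · left
    have c : Cfg t E E₀ F := ⟨inferInstance, hna, fun r hr P => hA r hr P, h5, h8, hH⟩
    obtain ⟨rfl, h55⟩ := five (Nat.card G + 1) (Nat.lt_succ_self _) c
    obtain ⟨e⟩ := cent_iso hH h55
    obtain ⟨T⟩ : Nonempty (Sylow 2 G) := inferInstance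
    exact Cfsg.Agent.S1644.result T (c.two_comm T) (c.card_eight T) t hH.ord e

end Cfsg.Lib.SylowAb
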