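import Cfsg.Agent.SylowAbelian.Fixed
import Cfsg.Agent.EqualOrder.PSLCase
import Cfsg.Agent.EqualOrder.JR.Field
import Cfsg.Agent.EqualOrder.Basic
import Cfsg.Agent.Classical.Misc.SmallPSL
import Cfsg.Agent.Components.BGNP.PSL

/-!
An automorphism of prime power order `r^k` of `PSL(2, q)`, `q ≡ 0, 3, 5 (mod 8)`, fixing a Sylow `r`-subgroup
pointwise, when that is abelian, is inner.
-/

set_option autoImplicit false
set_option linter.unusedSectionVars false
set_option linter.style.haveILetI false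

namespace Cfsg.Lib.SylowAb

open Matrix Subgroup Cfsg.Lib.Known.AutPSL2
open scoped Pointwise

/-- Scalars act trivially. -/
theorem conjSL_scalar {F : Type} [Field F] {g : GL (Fin 2) F} {c : F}
    (h : (g : Matrix (Fin 2) (Fin 2) F) = c • (1 : Matrix (Fin 2) (Fin 2) F)) : conjSL g = 1 := by
  refine MulEquiv.ext fun M => sl_ext ?_
  have h2 : (g : Matrix (Fin 2) (Fin 2) F) * ((g⁻¹ : GL (Fin 2) F) : Matrix (Fin 2) (Fin 2) F) = 1 := g.mul_inv
  rw [h, smul_mul_assoc, one_mul] at h2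
  rw [coe_conjSL, h, smul_mul_assoc, one_mul, smul_mul_assoc, ← mul_smul_comm, h2, mul_one]
  rfl

/-- The growth of the `r`-part from the fixed field. -/
theorem growth {q₀ r : ℕ} (hr : r.Prime) (hq₀ : 2 ≤ q₀) (hrq : ¬ r ∣ q₀)
    (hd : r ∣ q₀ ^ r * ((q₀ ^ r) ^ 2 - 1)) :
    ∃ K, ¬ r ^ (K + 1) ∣ q₀ * (q₀ ^ 2 - 1) ∧ r ^ (K + 1) ∣ q₀ ^ r * ((q₀ ^ r) ^ 2 - 1) := by
  haveI := Fact.mk hr
  have hx0 : q₀ ^ 2 - 1 ≠ 0 := by
    have := Nat.pow_le_pow_left hq₀ 2
    omega
  have hqq : (q₀ ^ r) ^ 2 = (q₀ ^ 2) ^ r := by rw [← pow_mul, ← pow_mul, mul_comm]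
  have hone : 1 ≤ q₀ ^ 2 := Nat.one_le_pow _ _ (by omega)
  have honeq : 1 ≤ (q₀ ^ 2) ^ r := Nat.one_le_pow _ _ (by omega)
  rw [hqq] at hd ⊢
  have hdx : r ∣ q₀ ^ 2 - 1 := by
    have h3 : r ∣ (q₀ ^ 2) ^ r - 1 := ((Nat.Prime.dvd_mul hr).1 hd).resolve_left fun h =>
      hrq (hr.dvd_of_dvd_pow h)
    rw [← ZMod.natCast_eq_zero_iff, Nat.cast_sub honeq, Nat.cast_pow, ZMod.pow_card] at h3
    rw [← ZMod.natCast_eq_zero_iff, Nat.cast_sub hone]
    exact h3
  refine ⟨(q₀ ^ 2 - 1).factorization r, fun h => ?_, ?_⟩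
  · have h7 := ((hr.coprime_iff_not_dvd.2 hrq).pow_left _).dvd_of_dvd_mul_left h
    exact Nat.not_succ_le_self _ ((Nat.Prime.pow_dvd_iff_le_factorization hr hx0).1 h7)
  · have hK := Nat.ordProj_dvd (q₀ ^ 2 - 1) r
    refine dvd_mul_of_dvd_right ?_ _
    rw [← Int.natCast_dvd_natCast, Nat.cast_sub honeq, Nat.cast_pow, Nat.cast_pow, Nat.cast_one,
      ← geom_sum_mul, pow_succ, mul_comm ((r : ℤ) ^ _)]
    refine mul_dvd_mul ?_ ?_
    · rw [← ZMod.intCast_zmod_eq_zero_iff_dvd]
      push_cast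
      have h1 : ((q₀ : ZMod r) ^ 2) = 1 := by
        have h := (ZMod.natCast_eq_zero_iff _ _).2 hdx
        rw [Nat.cast_sub hone, Nat.cast_pow, Nat.cast_one, sub_eq_zero] at h
        exact h
      simp [h1]
    · have := Int.natCast_dvd_natCast.2 hK
      rw [Nat.cast_sub hone] at this
      push_cast at this
      exact this

variable {F : Type} [Field F] [Fintype F]

local notation "PG" => Matrix.ProjectiveSpecialLinearGroup (Fin 2) F

theorem conjPG_injective : Function.Injective (MulAut.conj : PG →* MulAut PG) := by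
  refine (injective_iff_map_eq_one _).2 fun z hz => ?_
  rw [← mem_bot, ← Cfsg.Lib.BGN.P.psl_center_eq_bot (F := F), mem_center_iff]
  intro w
  have h := DFunLike.congr_fun hz w
  rw [MulAut.conj_apply, MulAut.one_apply, mul_inv_eq_iff_eq_mul] at h
  exact h.symm

/-- The `r`-subgroups of the extension by `α` are abelian and fix Sylow subgroups pointwise. -/
theorem sylow_trick {r : ℕ} [Fact r.Prime] {α : MulAut (Matrix.ProjectiveSpecialLinearGroup (Fin 2) F)} {k : ℕ}
    (hα : orderOf α = r ^ k) (R : Sylow r (Matrix.ProjectiveSpecialLinearGroup (Fin 2) F))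
    (hR : ∀ z ∈ R, α z = z) (hab : ∀ x ∈ R, ∀ y ∈ R, Commute x y)
    {L : Subgroup (Cfsg.Out PG)} (hαL : QuotientGroup.mk' (Cfsg.Inn PG) α ∈ L)
    (hidx : ¬ r ∣ (zpowers (QuotientGroup.mk' (Cfsg.Inn PG) α)).relIndex L)
    {P : Subgroup (MulAut PG)} (hp : IsPGroup r ↥P) (hle : P ≤ L.comap (QuotientGroup.mk' (Cfsg.Inn PG))) :
    (∀ x ∈ P, ∀ y ∈ P, Commute x y) ∧ ∀ x ∈ P, ∃ β : MulAut PG, ∀ z : PG, z ∈ R → x (β z) = β z := by
  classical
  have hr : r.Prime := Fact.out
  set mk := QuotientGroup.mk' (Cfsg.Inn PG) with hmk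
  set B := L.comap mk with hB
  set IR := (R : Subgroup PG).map (MulAut.conj : PG →* MulAut PG) with hIR
  have hcomm : ∀ z ∈ (R : Subgroup PG), Commute α (MulAut.conj z) := fun z hz => by
    refine MulEquiv.ext fun w => ?_
    rw [MulAut.mul_apply, MulAut.mul_apply, MulAut.conj_apply, MulAut.conj_apply, map_mul, map_mul, map_inv, hR z hz]
  set Q := zpowers α ⊔ IR with hQ
  have hn : zpowers α ≤ normalizer (IR : Set (MulAut PG)) := by
    refine le_trans (zpowers_le.2 ?_) (centralizer_le_normalizer _)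
    refine mem_centralizer_iff.2 ?_
    rintro _ ⟨z, hz, rfl⟩
    exact (hcomm z hz).symm.eq
  have hQp : IsPGroup r ↥Q := (IsPGroup.of_card (G := zpowers α) (n := k)
    (by rw [Nat.card_zpowers, hα])).to_sup_of_normal_right' (R.2.map _) hn
  have hQc : ∀ x ∈ Q, ∀ y ∈ Q, Commute x y := by
    have hgen : ∀ x ∈ Q, Commute x α ∧ ∀ z ∈ (R : Subgroup PG), Commute x (MulAut.conj z) := by
      intro x hx
      have hle : Q ≤ centralizer ({α} : Set (MulAut PG)) ⊓ centralizer (IR : Set (MulAut PG)) := by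
        refine sup_le (zpowers_le.2 (mem_inf.2 ⟨mem_centralizer_singleton_iff.2 rfl, ?_⟩)) ?_
        · refine mem_centralizer_iff.2 ?_
          rintro _ ⟨z, hz, rfl⟩
          exact (hcomm z hz).symm.eq
        · rintro _ ⟨z, hz, rfl⟩
          refine mem_inf.2 ⟨mem_centralizer_singleton_iff.2 (hcomm z hz).symm.eq, mem_centralizer_iff.2 ?_⟩
          rintro _ ⟨w, hw, rfl⟩
          exact ((hab w hw z hz).map (MulAut.conj : PG →* MulAut PG)).eq
      obtain ⟨h1, h2⟩ := mem_inf.1 (hle hx)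
      exact ⟨mem_centralizer_singleton_iff.1 h1, fun z hz => ((mem_centralizer_iff.1 h2 _ ⟨z, hz, rfl⟩)).symm⟩
    intro x hx y hy
    have hle : Q ≤ centralizer ({x} : Set (MulAut PG)) := by
      refine sup_le (zpowers_le.2 (mem_centralizer_singleton_iff.2 (hgen x hx).1.symm.eq)) ?_
      rintro _ ⟨z, hz, rfl⟩
      exact mem_centralizer_singleton_iff.2 ((hgen x hx).2 z hz).symm.eq
    exact (show Commute y x from mem_centralizer_singleton_iff.1 (hle hy)).symm
  have hinn : ∀ z : PG, mk (MulAut.conj z) = 1 := fun z => (QuotientGroup.eq_one_iff _).2 ⟨z, rfl⟩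
  have hQB : Q ≤ B := by
    refine sup_le (zpowers_le.2 hαL) ?_
    rintro _ ⟨z, -, rfl⟩
    show mk (MulAut.conj z) ∈ L
    rw [hinn]
    exact one_mem L
  -- the order of `Q`
  have hQge : Nat.card ↥(R : Subgroup PG) * orderOf (mk α) ≤ Nat.card ↥Q := by
    set ψ := mk.comp Q.subtype
    rw [← ψ.ker.card_mul_index, index_ker]
    refine Nat.mul_le_mul ?_ ?_
    · refine Nat.card_le_card_of_injective (fun z : ↥(R : Subgroup PG) =>
        (⟨⟨MulAut.conj (z : PG), mem_sup_right ⟨_, z.2, rfl⟩⟩, hinn _⟩ : ↥ψ.ker)) fun z w e => ?_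
      exact Subtype.ext (conjPG_injective (congrArg Subtype.val (congrArg Subtype.val e)))
    · rw [← Nat.card_zpowers]
      exact card_le_of_le (zpowers_le.2 ⟨⟨α, mem_sup_left (mem_zpowers α)⟩, rfl⟩)
  -- it is a Sylow subgroup
  obtain ⟨Q₀, hQ₀⟩ := (hQp.comap_of_injective B.subtype B.subtype_injective).exists_le_sylow
  have hcardB : Nat.card ↥B = Nat.card PG * Nat.card ↥L := by
    rw [hB, hmk, EqualOrder.card_comap_mk]
    have hI : Nat.card ↥(Cfsg.Inn PG) = Nat.card PG :=
      (Nat.card_congr (MonoidHom.ofInjective (f := (MulAut.conj : PG →* MulAut PG)) conjPG_injective).toEquiv).symm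
    rw [hI]
    first | rfl | exact mul_comm _ _
  have hQeq : Q.comap B.subtype = (Q₀ : Subgroup ↥B) := by
    refine eq_of_le_of_card_ge hQ₀ (le_trans (le_of_eq ?_)
      (le_trans hQge (le_of_eq (Nat.card_congr (subgroupOfEquivOfLe hQB).toEquiv).symm)))
    rw [Q₀.card_eq_multiplicity, R.card_eq_multiplicity, hcardB, Nat.factorization_mul Nat.card_pos.ne'
      Nat.card_pos.ne', Finsupp.add_apply, pow_add]
    congr 1
    obtain ⟨j, -, hj⟩ := (Nat.dvd_prime_pow hr).1 (hα ▸ orderOf_map_dvd mk α)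
    have hL : Nat.card ↥L = orderOf (mk α) * (zpowers (mk α)).relIndex L := by
      rw [← Nat.card_zpowers, ← Nat.card_congr (subgroupOfEquivOfLe (zpowers_le.2 hαL)).toEquiv]
      exact (card_mul_index _).symm
    have hne : (zpowers (mk α)).relIndex L ≠ 0 := index_ne_zero_of_finite
    rw [hL, hj, Nat.factorization_mul (pow_ne_zero _ hr.ne_zero) hne, Finsupp.add_apply,
      Nat.factorization_eq_zero_of_not_dvd hidx, hr.factorization_pow, Finsupp.single_eq_same, add_zero]
  obtain ⟨P₀, hP₀⟩ := (hp.comap_of_injective B.subtype B.subtype_injective).exists_le_sylow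
  obtain ⟨w, hw⟩ := MulAction.exists_smul_eq ↥B P₀ Q₀
  have hin : ∀ x ∈ P, (w : MulAut PG) * x * (w : MulAut PG)⁻¹ ∈ Q := fun x hx => by
    have h : w * ⟨x, hle hx⟩ * w⁻¹ ∈ (Q₀ : Subgroup ↥B) := by
      rw [← hw, Sylow.coe_subgroup_smul]
      exact ⟨_, hP₀ hx, rfl⟩
    rw [← hQeq] at h
    exact h
  refine ⟨fun x hx y hy => ?_, fun x hx => ⟨((w : MulAut PG))⁻¹, fun z hz => ?_⟩⟩
  · have := (hQc _ (hin x hx) _ (hin y hy)).map (MulAut.conj ((w : MulAut PG))⁻¹).toMonoidHom
    simpa [mul_assoc] using this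
  · have h1 : Commute ((w : MulAut PG) * x * (w : MulAut PG)⁻¹) (MulAut.conj z) :=
      hQc _ (hin x hx) _ (mem_sup_right ⟨z, hz, rfl⟩)
    set γ := (w : MulAut PG) * x * (w : MulAut PG)⁻¹ with hγ
    have h2 : MulAut.conj (γ z) = MulAut.conj z := by
      rw [← mul_inv_eq_of_eq_mul h1.eq]
      refine MulEquiv.ext fun v => ?_
      simp [MulAut.mul_apply, MulAut.inv_def]
    have h3 : γ z = z := conjPG_injective h2
    rw [hγ, MulAut.mul_apply, MulAut.mul_apply] at h3
    exact (w : MulAut PG).injective (h3.trans ((w : MulAut PG).apply_symm_apply z).symm)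

variable {p : ℕ} [Fact p.Prime] [CharP F p] [Algebra (ZMod p) F] {d : ℕ}

/-- The automorphism is inner. -/
theorem psl_inner {r : ℕ} [Fact r.Prime] {α : MulAut (Matrix.ProjectiveSpecialLinearGroup (Fin 2) F)} {k : ℕ}
    (hα : orderOf α = r ^ k) (R : Sylow r (Matrix.ProjectiveSpecialLinearGroup (Fin 2) F))
    (hR : ∀ z ∈ R, α z = z) (hab : ∀ x ∈ R, ∀ y ∈ R, Commute x y)
    (hd : 1 ≤ d) (hF : Fintype.card F = p ^ d)
    (hq : Fintype.card F % 8 = 0 ∨ Fintype.card F % 8 = 3 ∨ Fintype.card F % 8 = 5)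
    (hrd : r ∣ Nat.card PG) : α ∈ Cfsg.Inn PG := by
  classical
  have hr : r.Prime := Fact.out
  have hp : p.Prime := Fact.out
  haveI : FiniteDimensional (ZMod p) F := Module.Finite.of_finite
  haveI : NeZero d := ⟨by omega⟩
  set mk := QuotientGroup.mk' (Cfsg.Inn PG) with hmk
  obtain ⟨φ, -, -, hker⟩ := exists_hom_out (F := F) p hd hF
  have hker2 : Nat.card φ.ker ∣ 2 := hker ▸ Nat.gcd_dvd_left _ _
  obtain ⟨j, -, hj⟩ := (Nat.dvd_prime_pow hr).1 (hα ▸ orderOf_map_dvd mk α)
  -- the field odd in the odd case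
  have hdodd : p ≠ 2 → Odd d ∧ (p ^ d % 8 = 3 ∨ p ^ d % 8 = 5) := fun hp2 => by
    have h8 : p ^ d % 8 = 3 ∨ p ^ d % 8 = 5 := by
      rw [← hF]
      refine hq.resolve_left fun h0 => hp2 ?_
      have h2 : 2 ∣ p ^ d := hF ▸ (by omega : 2 ∣ Fintype.card F)
      exact ((Nat.prime_dvd_prime_iff_eq Nat.prime_two hp).1 (Nat.prime_two.dvd_of_dvd_pow h2)).symm
    exact ⟨(EqualOrder.odd_degree h8).1, h8⟩
  have hkp : p = 2 → Nat.card φ.ker = 1 := fun e => by
    rw [hker, e]
    exact Nat.coprime_two_left.2 (Nat.Even.sub_odd Nat.one_le_two_pow ((Nat.even_pow' (by omega)).2 even_two) odd_one)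
  refine (QuotientGroup.eq_one_iff α).1 ?_
  show mk α = 1
  by_contra hne
  by_cases hφ : φ (mk α) = 1
  · -- outer diagonal automorphisms
    have h2 : orderOf (mk α) = 2 := by
      have h1 := (φ.ker.orderOf_dvd_natCard (MonoidHom.mem_ker.2 hφ)).trans hker2
      rcases (Nat.dvd_prime Nat.prime_two).1 h1 with h | h
      · exact absurd (orderOf_eq_one_iff.1 h) hne
      · exact h
    obtain rfl : r = 2 := by
      rcases j with _ | j
      · rw [pow_zero] at hj
        omega
      · exact (Nat.prime_dvd_prime_iff_eq hr Nat.prime_two).1 ((dvd_pow_self r (Nat.succ_ne_zero j)).trans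
          (dvd_of_eq (hj.symm.trans h2)))
    have hp2 : p ≠ 2 := fun e => by
      have h1 := φ.ker.orderOf_dvd_natCard (MonoidHom.mem_ker.2 hφ)
      rw [hkp e, h2] at h1
      norm_num at h1
    obtain ⟨hd2, h8⟩ := hdodd hp2
    have hk2 : zpowers (mk α) = φ.ker := eq_of_le_of_card_ge (zpowers_le.2 (MonoidHom.mem_ker.2 hφ))
      (by rw [Nat.card_zpowers, h2]; exact Nat.le_of_dvd two_pos hker2)
    have hin : ∀ x : MulAut PG, x ^ 4 = 1 → mk x ∈ zpowers (mk α) := fun x hx => by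
      rw [hk2, MonoidHom.mem_ker, ← orderOf_eq_one_iff]
      refine Nat.eq_one_of_dvd_coprimes ((Nat.coprime_two_left.2 hd2).pow_left 2) ?_ ((_root_.orderOf_dvd_natCard
        (φ (mk x))).trans (dvd_of_eq (by rw [Nat.card_congr Multiplicative.toAdd, Nat.card_zmod])))
      exact ((orderOf_map_dvd φ _).trans (orderOf_map_dvd mk x)).trans (orderOf_dvd_of_pow_eq_one hx)
    have h20 : (2 : F) ≠ 0 := by
      exact Ring.two_ne_zero (by rw [ringChar.eq F p]; exact hp2)
    let A : Matrix (Fin 2) (Fin 2) F := !![1, -1; 1, 1]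
    let g : GL (Fin 2) F := Matrix.GeneralLinearGroup.mkOfDetNeZero A (by
      simp [A, det_fin_two]; norm_num; exact h20)
    let δ : GL (Fin 2) F := diagGL (-1)
    set γ : MulAut PG := liftPSL (conjSL g) with hγ
    set ε : MulAut PG := liftPSL (conjSL δ) with hε
    have hgval : (g : Matrix (Fin 2) (Fin 2) F) = A := rfl
    have hg4 : γ ^ 4 = 1 := by
      rw [hγ, ← map_pow, ← map_pow, conjSL_scalar (c := -4) ?_, map_one]
      rw [Units.val_pow_eq_pow_val, hgval, pow_succ, pow_succ, pow_two]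
      ext i j
      fin_cases i <;> fin_cases j <;> simp [A, Matrix.mul_apply, Fin.sum_univ_two] <;> norm_num
    have hε2 : ε * ε = 1 := by
      rw [hε, ← map_mul, ← map_mul, ← map_mul, show (-1 : Fˣ) * -1 = 1 by simp, map_one, map_one, map_one]
    have hεγ : ε * γ * ε⁻¹ = γ⁻¹ := by
      rw [inv_eq_of_mul_eq_one_right hε2, eq_inv_iff_mul_eq_one, hε, hγ, ← map_mul, ← map_mul, ← map_mul,
        ← map_mul, ← map_mul, ← map_mul, conjSL_scalar (c := 2) ?_, map_one]
      rw [Units.val_mul, Units.val_mul, Units.val_mul, hgval, coe_diagGL]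
      ext i j
      fin_cases i <;> fin_cases j <;> simp [A, Matrix.mul_apply, Fin.sum_univ_two] <;> norm_num
    have hn : zpowers ε ≤ normalizer ((zpowers γ : Subgroup (MulAut PG)) : Set (MulAut PG)) := by
      refine zpowers_le.2 (mem_normalizer_fintype fun v hv => ?_)
      obtain ⟨i, rfl⟩ := mem_zpowers_iff.1 hv
      refine mem_zpowers_iff.2 ⟨-i, ?_⟩
      rw [← conj_zpow, hεγ, _root_.inv_zpow, _root_.zpow_neg]
    have hpow : ∀ (x : MulAut PG) (i : ℕ), x ^ (2 ^ i) = 1 → IsPGroup 2 ↥(zpowers x) := fun x i hx => by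
      obtain ⟨l, -, hl⟩ := (Nat.dvd_prime_pow Nat.prime_two).1 (orderOf_dvd_of_pow_eq_one hx)
      exact IsPGroup.of_card (n := l) (by rw [Nat.card_zpowers, hl])
    have hP : IsPGroup 2 ↥(zpowers ε ⊔ zpowers γ) :=
      (hpow ε 1 (by rw [pow_one, pow_two, hε2])).to_sup_of_normal_right' (hpow γ 2 (by norm_num; exact hg4)) hn
    obtain ⟨hc, -⟩ := sylow_trick hα R hR hab (L := zpowers (mk α)) (mem_zpowers _)
      (by rw [relIndex_self]; norm_num) hP (sup_le (zpowers_le.2 (mem_comap.2 (hin ε (by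
        rw [pow_succ, pow_succ, pow_two, hε2, one_mul, hε2])))) (zpowers_le.2 (mem_comap.2 (hin γ hg4))))
    have h := hc ε (mem_sup_left (mem_zpowers ε)) γ (mem_sup_right (mem_zpowers γ))
    rw [h.eq, mul_inv_cancel_right, eq_inv_iff_mul_eq_one, hγ, ← map_mul, ← map_mul] at hεγ
    obtain ⟨h01, -, -⟩ := scalar_of_conjSL_fix (g := g * g)
      (by rw [← liftPSL_apply, hεγ, MulAut.one_apply]) (by rw [← liftPSL_apply, hεγ, MulAut.one_apply])
    rw [Units.val_mul, hgval] at h01
    apply h20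
    simp [A, Matrix.mul_apply, Fin.sum_univ_two] at h01
    first
      | linear_combination h01
      | linear_combination -h01
  · -- field automorphisms
    have hdvd : r ∣ d := by
      obtain ⟨i, -, hi⟩ := (Nat.dvd_prime_pow hr).1 (hj ▸ orderOf_map_dvd φ (mk α))
      have h1 : orderOf (φ (mk α)) ∣ d :=
        (_root_.orderOf_dvd_natCard _).trans (dvd_of_eq (by rw [Nat.card_congr Multiplicative.toAdd, Nat.card_zmod]))
      rcases i with _ | i
      · rw [pow_zero, orderOf_eq_one_iff] at hi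
        exact absurd hi hφ
      · rw [hi] at h1
        exact (dvd_pow_self r (Nat.succ_ne_zero i)).trans h1
    have hr_ker : ¬ r ∣ Nat.card φ.ker := fun h => by
      obtain rfl : r = 2 := (Nat.prime_dvd_prime_iff_eq hr Nat.prime_two).1 (h.trans hker2)
      by_cases hp2 : p = 2
      · rw [hkp hp2] at h
        norm_num at h
      · exact (hdodd hp2).1.not_two_dvd_nat hdvd
    have hord : ∀ o : Cfsg.Out PG, ∀ i : ℕ, orderOf o = r ^ i → orderOf (φ o) = r ^ i := fun o i hi => by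
      refine Nat.dvd_antisymm (hi ▸ orderOf_map_dvd φ o) (hi ▸ orderOf_dvd_of_pow_eq_one ?_)
      have hk : o ^ orderOf (φ o) ∈ φ.ker := by
        rw [MonoidHom.mem_ker, map_pow, pow_orderOf_eq_one]
      refine orderOf_eq_one_iff.1 (Nat.eq_one_of_dvd_coprimes ((hr.coprime_iff_not_dvd.2 hr_ker).pow_left i)
        (hi ▸ orderOf_pow_dvd _) (φ.ker.orderOf_dvd_natCard hk))
    -- a field automorphism of order `r`
    have hcardG : Nat.card (F ≃ₐ[ZMod p] F) = d := by
      rw [IsGalois.card_aut_eq_finrank]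
      have h := Module.natCard_eq_pow_finrank (K := ZMod p) (V := F)
      rw [Nat.card_eq_fintype_card, hF, Nat.card_zmod] at h
      exact (Nat.pow_right_injective hp.two_le h).symm
    obtain ⟨σ, hσ⟩ := exists_prime_orderOf_dvd_card' (G := F ≃ₐ[ZMod p] F) r (hcardG.symm ▸ hdvd)
    have hσ1 : σ ≠ 1 := fun e => hr.one_lt.ne (by rw [← hσ, e, orderOf_one])
    have hmkσ : orderOf (mk (fieldAut p σ)) = r := by
      refine orderOf_eq_prime (by rw [← map_pow, ← map_pow, ← hσ, pow_orderOf_eq_one, map_one, map_one]) fun e => ?_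
      obtain ⟨g, hg⟩ := (QuotientGroup.eq_one_iff _).1 e
      exact hσ1 (inner_imp p (a := 1) (g := g) (by rw [map_one, one_mul, hg])).1
    set L := (zpowers (φ (mk α))).comap φ with hL
    have hσL : mk (fieldAut p σ) ∈ L := by
      have hφσ : orderOf (φ (mk (fieldAut p σ))) = r :=
        (hord _ 1 (by rw [hmkσ, pow_one])).trans (pow_one r)
      obtain ⟨i, -, hi⟩ := (Nat.dvd_prime_pow hr).1 (hj ▸ orderOf_map_dvd φ (mk α))
      rcases i with _ | i
      · rw [pow_zero, orderOf_eq_one_iff] at hi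
        exact absurd hi hφ
      have hw : orderOf (φ (mk α) ^ r ^ i) = r := by
        rw [orderOf_pow_of_dvd (pow_ne_zero _ hr.ne_zero) (hi ▸ pow_dvd_pow r (Nat.le_succ i)), hi, pow_succ,
          Nat.mul_div_cancel_left _ (pow_pos hr.pos i)]
      exact zpowers_le.2 (pow_mem (mem_zpowers _) _) (EqualOrder.mem_zpowers_of_cyclic hr hw hφσ)
    have hidx : ¬ r ∣ (zpowers (mk α)).relIndex L := by
      have hαL : zpowers (mk α) ≤ L := zpowers_le.2 (mem_comap.2 (mem_zpowers (φ (mk α))))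
      have h1 : Nat.card ↥L ≤ Nat.card φ.ker * orderOf (mk α) := by
        set ψ := φ.comp L.subtype
        rw [← ψ.ker.card_mul_index, index_ker]
        refine Nat.mul_le_mul ?_ ?_
        · exact Nat.card_le_card_of_injective (fun x : ↥ψ.ker => (⟨((x : ↥L) : Cfsg.Out PG), x.2⟩ : ↥φ.ker))
            fun x y e => Subtype.ext (Subtype.ext (congrArg (fun v : ↥φ.ker => (v : Cfsg.Out PG)) e :))
        · rw [hj, ← hord _ _ hj, ← Nat.card_zpowers]
          refine card_le_of_le ?_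
          rintro _ ⟨x, rfl⟩
          exact x.2
      have h2 : Nat.card ↥L = orderOf (mk α) * (zpowers (mk α)).relIndex L := by
        rw [← Nat.card_zpowers, ← Nat.card_congr (subgroupOfEquivOfLe hαL).toEquiv]
        exact (card_mul_index _).symm
      intro h3
      have h4 : (zpowers (mk α)).relIndex L ≤ Nat.card φ.ker := by
        rw [h2, mul_comm (Nat.card φ.ker)] at h1
        exact Nat.le_of_mul_le_mul_left h1 (orderOf_pos _)
      have hk1 := Nat.le_of_dvd two_pos hker2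
      have hne : (zpowers (mk α)).relIndex L ≠ 0 := index_ne_zero_of_finite
      have hrle := Nat.le_of_dvd (Nat.pos_of_ne_zero hne) h3
      have hr2 := hr.two_le
      exact hr_ker (dvd_of_eq (by omega))
    have hαL : mk α ∈ L := mem_comap.2 (mem_zpowers _)
    have hσo : orderOf (fieldAut p σ) = r := by
      refine orderOf_eq_prime (by rw [← map_pow, ← hσ, pow_orderOf_eq_one, map_one]) fun e => ?_
      rw [e, map_one, orderOf_one] at hmkσ
      exact hr.one_lt.ne hmkσ
    have hσp : IsPGroup r ↥(zpowers (fieldAut p σ)) :=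
      IsPGroup.of_card (n := 1) (by rw [Nat.card_zpowers, hσo, pow_one])
    by_cases hrp : r = p
    · subst hrp
      set U := (u (F := F)).range.map (MulAut.conj : PG →* MulAut PG) with hU
      have hU2 : IsPGroup r ↥U := by
        refine (IsPGroup.of_surjective ?_ (u (F := F)).rangeRestrict (u (F := F)).rangeRestrict_surjective).map _
        exact IsPGroup.of_card (n := d) (by rw [Nat.card_congr Multiplicative.toAdd, Nat.card_eq_fintype_card, hF])
      have hn : zpowers (fieldAut r σ) ≤ normalizer (U : Set (MulAut PG)) := by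
        refine zpowers_le.2 (mem_normalizer_fintype fun v hv => ?_)
        obtain ⟨_, ⟨x, rfl⟩, rfl⟩ := hv
        refine ⟨fieldAut r σ (u x), ⟨Multiplicative.ofAdd (σ x.toAdd), ?_⟩, ?_⟩
        · show π (uS (σ x.toAdd)) = fieldAut r σ (π (uS x.toAdd))
          rw [fieldAut_u]
        · refine MulEquiv.ext fun w => ?_
          simp [MulAut.mul_apply, MulAut.inv_def]
      obtain ⟨hc, -⟩ := sylow_trick hα R hR hab hαL hidx (hσp.to_sup_of_normal_right' hU2 hn)
        (sup_le (zpowers_le.2 (mem_comap.2 hσL)) (by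
          rintro _ ⟨z, -, rfl⟩
          show mk (MulAut.conj z) ∈ L
          rw [show mk (MulAut.conj z) = 1 from (QuotientGroup.eq_one_iff _).2 ⟨z, rfl⟩]
          exact one_mem L))
      obtain ⟨x, hx⟩ : ∃ x : F, σ x ≠ x := by
        by_contra! h
        exact hσ1 (AlgEquiv.ext h)
      have h := hc (fieldAut r σ) (mem_sup_left (mem_zpowers _)) (MulAut.conj (π (uS x)))
        (mem_sup_right ⟨_, ⟨Multiplicative.ofAdd x, rfl⟩, rfl⟩)
      have h1 : MulAut.conj (fieldAut r σ (π (uS x))) = MulAut.conj (π (uS x)) := by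
        rw [← mul_inv_eq_of_eq_mul h.eq]
        refine MulEquiv.ext fun v => ?_
        simp [MulAut.mul_apply, MulAut.inv_def]
      rw [fieldAut_u] at h1
      exact hx (uS_injective_π (conjPG_injective h1))
    -- `σ` fixes a Sylow subgroup
    have hr2 : r ≠ 2 := fun e => by
      subst e
      exact (hdodd (Ne.symm hrp)).1.not_two_dvd_nat hdvd
    have hodd : Odd (orderOf σ) := hσ ▸ hr.odd_of_ne_two hr2
    obtain ⟨-, hfix⟩ := sylow_trick hα R hR hab hαL hidx hσp (zpowers_le.2 (mem_comap.2 hσL))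
    obtain ⟨β, hβ⟩ := hfix _ (mem_zpowers _)
    letI := Fintype.ofFinite (fixF p σ)
    have hW : Nat.card ↥(R : Subgroup PG) ∣
        Nat.card (Matrix.ProjectiveSpecialLinearGroup (Fin 2) (fixF p σ)) := by
      rw [Nat.card_congr (MonoidHom.ofInjective (incl_injective p σ)).toEquiv]
      refine (dvd_of_eq (card_map_of_injective (f := β.toMonoidHom) β.injective).symm).trans (card_dvd_of_le ?_)
      rintro _ ⟨z, hz, rfl⟩
      exact (mem_range_incl p hodd).2 (hβ z hz)
    have hqeq : Fintype.card F = Nat.card (fixF p σ) ^ r := hσ ▸ card_fixF p σ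
    have hq₀ : 2 ≤ Nat.card (fixF p σ) := Finite.one_lt_card
    have hrq : ¬ r ∣ Nat.card (fixF p σ) := fun h => by
      have hh : r ∣ Fintype.card F := hqeq ▸ dvd_pow h hr.ne_zero
      rw [hF] at hh
      exact hrp ((Nat.prime_dvd_prime_iff_eq hr hp).1 (hr.dvd_of_dvd_pow hh))
    have hc := Cfsg.Lib.Classical.SmallPSL.card_psl (F := F) rfl
    have hc₀ := Cfsg.Lib.Classical.SmallPSL.card_psl (F := fixF p σ) rfl
    rw [← Nat.card_eq_fintype_card (α := fixF p σ)] at hc₀
    obtain ⟨K, hK1, hK2⟩ := growth hr hq₀ hrq (by rw [← hqeq, ← hc]; exact dvd_mul_of_dvd_right hrd _)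
    rw [← hqeq, ← hc] at hK2
    have hgc : (r ^ (K + 1)).Coprime (Nat.gcd 2 (Fintype.card F - 1)) :=
      ((Nat.coprime_primes hr Nat.prime_two).2 hr2).coprime_dvd_right (Nat.gcd_dvd_left _ _) |>.pow_left _
    exact hK1 (hc₀ ▸ dvd_mul_of_dvd_right ((R.pow_dvd_card_of_pow_dvd_card (hgc.dvd_of_dvd_mul_left hK2)).trans hW) _)

end Cfsg.Lib.SylowAb
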