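import Cfsg.Agent.SylowAbelian.Main
import Cfsg.Agent.SylowAbelian.Inner
import Cfsg.Agent.Janko.Automorphisms

/-!
Automorphisms of prime power order centralizing a Sylow subgroup in the simple groups with abelian Sylow subgroups.
-/

set_option autoImplicit false
set_option linter.unusedSectionVars false
set_option linter.style.haveILetI false

namespace Cfsg.Lib.SylowAb

open Subgroup

/-- The statement of row 2555. -/
theorem inner_main {G : Type*} [Group G] [Finite G] [IsSimpleGroup G] (hna : ¬ IsMulCommutative G)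
    (hA : ∀ (p : ℕ), p.Prime → ∀ (P : Sylow p G), IsMulCommutative ↥P)
    (r : ℕ) [Fact r.Prime] (hr : r ∣ Nat.card G) (α : G ≃* G) (k : ℕ) (hα : orderOf α = r ^ k)
    (R : Sylow r G) (hR : ∀ x ∈ (R : Subgroup G), α x = x) :
    ∃ g : G, ∀ x : G, α x = g * x * g⁻¹ := by
  rcases classify hna hA with ⟨⟨e⟩⟩ | ⟨F, iF, iT, h3, h8, ⟨e⟩⟩
  · obtain ⟨g, hg⟩ := Cfsg.Lib.Janko.inner_all (MulAut.congr e α)
    refine ⟨e.symm g, fun x => e.injective ?_⟩
    have h := DFunLike.congr_fun hg (e x)
    simp [MulAut.congr] at h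
    simpa using h.symm
  · classical
    obtain ⟨p, d, hp, hd, hF⟩ : ∃ p d : ℕ, p.Prime ∧ 1 ≤ d ∧ Fintype.card F = p ^ d := by
      obtain ⟨n, hp, hn⟩ := FiniteField.card F (ringChar F)
      exact ⟨_, _, hp, n.2, hn⟩
    haveI := Fact.mk hp
    haveI : CharP F p := charP_of_card_eq_prime_pow hF
    letI : Algebra (ZMod p) F := ZMod.algebra F p
    obtain ⟨g, hg⟩ := psl_inner (α := MulAut.congr e α) ((MulEquiv.orderOf_eq (MulAut.congr e) α).trans hα)
      (R.mapSurjective (f := e.toMonoidHom) e.surjective) (fun z hz => by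
        obtain ⟨x, hx, rfl⟩ := hz
        simp [MulAut.congr, hR x hx]) (fun a ha b hb => by
        obtain ⟨x, hx, rfl⟩ := ha
        obtain ⟨y, hy, rfl⟩ := hb
        exact (show Commute x y from congrArg Subtype.val
          ((hA r Fact.out R).is_comm.comm ⟨x, hx⟩ ⟨y, hy⟩)).map e.toMonoidHom)
      hd hF h8 (Nat.card_congr e.toEquiv ▸ hr)
    refine ⟨e.symm g, fun x => e.injective ?_⟩
    have h := DFunLike.congr_fun hg (e x)
    simp [MulAut.congr] at h
    simpa using h.symm

end Cfsg.Lib.SylowAb
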