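import Cfsg.Agent.JankoOne.Table
import Cfsg.Agent.AbCentMax.Setup
import Cfsg.Agent.S0253

/-!
The centraliser `2 × A₅`.
-/

set_option autoImplicit false
set_option linter.unusedSectionVars false
set_option linter.style.haveILetI false

namespace Cfsg.Lib.SylowAb

open Subgroup

universe u

variable {G : Type u} [Group G] [Finite G] {t : G} {E : Subgroup G} {F : Type} [Field F] [Fintype F]

/-- The centraliser of `t` when `E = PSL(2, 5)`. -/
theorem cent_iso (h : AbCentMax.Hyp t E E F) (h5 : Fintype.card F = 5) :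
    Nonempty (↥(centralizer ({t} : Set G)) ≃* JankoOne.K) := by
  obtain ⟨f⟩ := h.iso
  obtain ⟨g⟩ := Cfsg.Agent.S0253.result h5
  let τ : Multiplicative (ZMod 2) →* ↥(centralizer ({t} : Set G)) :=
    { toFun := fun a => if a = 1 then 1 else ⟨t, mem_centralizer_singleton_iff.2 rfl⟩
      map_one' := if_pos rfl
      map_mul' := by
        have key : ∀ a b : Multiplicative (ZMod 2), a = 1 ∨ b = 1 ∨ (a ≠ 1 ∧ b ≠ 1 ∧ a * b = 1) := by decide
        intro a b
        rcases key a b with rfl | rfl | ⟨ha, hb, hab⟩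
        · simp
        · simp
        · simp [ha, hb, hab]
          exact Subtype.ext h.tt.symm }
  let ι : alternatingGroup (Fin 5) →* ↥(centralizer ({t} : Set G)) :=
    ((E.subtype.comp ((f.trans g).symm.toMonoidHom)).codRestrict _ fun a =>
      mem_centralizer_singleton_iff.2 (h.comm _ ((f.trans g).symm a).2).symm.eq)
  have hcomm : ∀ a b, Commute (τ a) (ι b) := fun a b => by
    by_cases ha : a = 1
    · rw [ha, map_one]; exact Commute.one_left _
    · refine Subtype.ext ?_
      simp only [τ, MonoidHom.coe_mk, OneHom.coe_mk, if_neg ha]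
      exact (h.comm _ ((f.trans g).symm b).2).eq
  let Φ := MonoidHom.noncommCoprod τ ι hcomm
  have hτ : ∀ a, a ≠ 1 → ((τ a : ↥(centralizer ({t} : Set G))) : G) = t := fun a ha => by simp [τ, ha]
  have hbij : Function.Bijective Φ := by
    refine ⟨(injective_iff_map_eq_one Φ).2 ?_, ?_⟩
    · rintro ⟨a, b⟩ e
      have e' : ((τ a : ↥(centralizer ({t} : Set G))) : G) * ((f.trans g).symm b : G) = 1 :=
        congrArg Subtype.val e
      by_cases ha : a = 1
      · subst ha
        simp only [map_one, OneMemClass.coe_one, one_mul, OneMemClass.coe_eq_one, MulEquiv.map_eq_one_iff] at e'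
        simp [e']
      · rw [hτ a ha] at e'
        exact absurd (eq_inv_of_mul_eq_one_left e' ▸ inv_mem ((f.trans g).symm b).2) h.disj
    · rintro ⟨x, hx⟩
      obtain ⟨e, he, r | r⟩ := h.split x (mem_centralizer_singleton_iff.1 hx)
      · refine ⟨(1, (f.trans g) ⟨e, he⟩), Subtype.ext ?_⟩
        simp [Φ, ι, MonoidHom.noncommCoprod_apply, r]
      · refine ⟨(Multiplicative.ofAdd 1, (f.trans g) ⟨e, he⟩), Subtype.ext ?_⟩
        simp [Φ, ι, MonoidHom.noncommCoprod_apply, r, hτ _ (by decide : Multiplicative.ofAdd (1 : ZMod 2) ≠ 1)]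
  exact ⟨(MulEquiv.ofBijective Φ hbij).symm⟩

theorem cent_card (h : AbCentMax.Hyp t E E F) (h5 : Fintype.card F = 5) :
    Nat.card ↥(centralizer ({t} : Set G)) = 120 := by
  obtain ⟨e⟩ := cent_iso h h5
  rw [Nat.card_congr e.toEquiv, Nat.card_prod, Nat.card_congr Multiplicative.toAdd, Nat.card_zmod,
    nat_card_alternatingGroup, Nat.card_eq_fintype_card, Fintype.card_fin]
  rfl

end Cfsg.Lib.SylowAb
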