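import Cfsg.Agent.SylowAbelian.Cell
import Cfsg.Agent.SylowAbelian.Product
import Cfsg.Agent.Walter.Main
import Cfsg.Agent.Walter.TypeBinary
import Cfsg.Agent.Walter.TypeJR
import Cfsg.Agent.Classical.Misc.SmallPSL
import Cfsg.Agent.Components.BGNP.PSL
import Cfsg.Agent.Ree.Transfer.JOne
import Cfsg.Agent.S0276

/-!
The groups with a fused Sylow 2-subgroup of order 8 and an involution centralizer `2 × A₄` or `2 × A₅`: the
primes from 5 on dividing the order, and the weights.
-/

set_option autoImplicit false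
set_option linter.unusedSectionVars false
set_option linter.style.haveILetI false

namespace Cfsg.Lib.SylowAb

open Subgroup
open scoped Pointwise

universe u

variable {G : Type u} [Group G] [Finite G] {T : Sylow 2 G} {t : G} (c : Cell T t)
include c

local notation "N" => normalizer (SetLike.coe (T : Subgroup G))

/-- The weight of an element of order `r`. -/
def Weight (G : Type u) [Group G] (r : ℕ) : Prop :=
  ∃ y c : G, ∃ b : ℕ, orderOf y = r ∧ c * y * c⁻¹ = y ^ b ∧ (b : ZMod r) ^ 2 ≠ 1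

/-- The normalizer of the Sylow subgroup has order 168. -/
theorem Cell.card_168 {n : G} (hno : orderOf n = 3) (hnN : n ∈ N) (hnt : Commute n t)
    (hC : Nat.card ↥(centralizer ({t} : Set G)) ∣ 120) (hCT : centralizer ((T : Subgroup G) : Set G) ≤ T) :
    Nat.card ↥(normalizer ((T : Subgroup G) : Set G)) = 168 := by
  classical
  set D := normalizer ((T : Subgroup G) : Set G) ⊓ centralizer ({t} : Set G) with hD
  rw [c.card_trans le_rfl c.trans, ← hD]
  have h8 : 8 ∣ Nat.card ↥D := by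
    rw [← c.card]
    exact card_dvd_of_le (le_inf le_normalizer fun x hx =>
      mem_centralizer_singleton_iff.2 (c.tcomm x hx t c.tT).eq)
  have h3 : 3 ∣ Nat.card ↥D := hno ▸ D.orderOf_dvd_natCard ⟨hnN, mem_centralizer_singleton_iff.2 hnt.eq⟩
  have h24 : 24 ∣ Nat.card ↥D := Nat.Coprime.mul_dvd_of_dvd_of_dvd (by norm_num : Nat.Coprime 8 3) h8 h3
  have h120 : Nat.card ↥D ∣ 120 := (card_dvd_of_le inf_le_right).trans hC
  have h5 : ¬ 5 ∣ Nat.card ↥D := fun h5 => by
    haveI : Fact (Nat.Prime 5) := ⟨by norm_num⟩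
    obtain ⟨⟨y, hyD⟩, hy⟩ := exists_prime_orderOf_dvd_card' (G := D) 5 h5
    rw [Subgroup.orderOf_mk] at hy
    have hmod := ReeAb.card_modEq_fixed hy (Q := (T : Subgroup G)) hyD.1
    have hdv : Nat.card ↥((T : Subgroup G) ⊓ centralizer ({y} : Set G)) ∣ 8 :=
      c.card ▸ card_dvd_of_le inf_le_left
    rw [c.card, Nat.ModEq] at hmod
    have hle := Nat.le_of_dvd (by norm_num) hdv
    have h8' : Nat.card ↥((T : Subgroup G) ⊓ centralizer ({y} : Set G)) = 8 := by
      generalize Nat.card ↥((T : Subgroup G) ⊓ centralizer ({y} : Set G)) = k at hmod hdv hle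
      interval_cases k <;> omega
    have hTy : (T : Subgroup G) ≤ centralizer ({y} : Set G) := inf_eq_left.1
      (eq_of_le_of_card_ge inf_le_left (by rw [h8', c.card]))
    have hyT := hCT (mem_centralizer_iff.2 fun x hx => mem_centralizer_singleton_iff.1 (hTy hx))
    have := (T : Subgroup G).orderOf_dvd_natCard hyT
    rw [hy, c.card] at this
    norm_num at this
  have h24' : Nat.card ↥D = 24 := by
    obtain ⟨k, hk⟩ := h24
    rw [hk] at h120 h5 ⊢
    have hk5 : k ∣ 5 := Nat.dvd_of_mul_dvd_mul_left (by norm_num : 0 < 24) (h120.trans (dvd_of_eq (by norm_num)))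
    rcases (Nat.dvd_prime (by norm_num : Nat.Prime 5)).1 hk5 with rfl | rfl
    · rfl
    · exact absurd (dvd_mul_left 5 24) h5
  rw [h24']

/-- In a group of order `168` acting faithfully on the seven involutions an element of order 7 is normalized
with a weight. -/
theorem Cell.weight_seven (hN : Nat.card ↥(normalizer ((T : Subgroup G) : Set G)) = 168)
    (hCT : centralizer ((T : Subgroup G) : Set G) ≤ T) : Weight G 7 := by
  classical
  haveI : Fact (Nat.Prime 7) := ⟨by norm_num⟩
  haveI : Fact (Nat.Prime 3) := ⟨Nat.prime_three⟩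
  set M := normalizer ((T : Subgroup G) : Set G) with hM
  obtain ⟨R⟩ : Nonempty (Sylow 7 ↥M) := inferInstance
  have hR : Nat.card ↥(R : Subgroup ↥M) = 7 := by
    obtain ⟨j, hj⟩ := R.2.exists_card_eq
    have h1 : 7 ∣ Nat.card ↥(R : Subgroup ↥M) := R.dvd_card_of_dvd_card (by rw [hN]; norm_num)
    have h2 : Nat.card ↥(R : Subgroup ↥M) ∣ 168 := hN ▸ card_subgroup_dvd_card _
    rcases j with _ | _ | j
    · rw [hj] at h1; norm_num at h1
    · exact hj
    · exfalso
      have h3 : 7 ^ 2 ∣ 168 := (pow_dvd_pow 7 (by omega)).trans (hj ▸ h2)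
      norm_num at h3
  obtain ⟨⟨⟨y, hyM⟩, hyR⟩, hy⟩ := exists_prime_orderOf_dvd_card' (G := ↥(R : Subgroup ↥M)) 7 (by rw [hR])
  rw [Subgroup.orderOf_mk, Subgroup.orderOf_mk] at hy
  have hgen : (R : Subgroup ↥M) = zpowers ⟨y, hyM⟩ := (eq_of_le_of_card_ge (zpowers_le.2 hyR) (by
    rw [hR, Nat.card_zpowers, Subgroup.orderOf_mk, hy])).symm
  -- an element of order three normalizes it
  have h3 : 3 ∣ Nat.card ↥(normalizer ((R : Subgroup ↥M) : Set ↥M)) := by
    have h1 := (normalizer ((R : Subgroup ↥M) : Set ↥M)).card_mul_index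
    have hidx : Nat.card (Sylow 7 ↥M) = (normalizer ((R : Subgroup ↥M) : Set ↥M)).index := R.card_eq_index_normalizer
    rw [← hidx, hN] at h1
    have h2 : Nat.card (Sylow 7 ↥M) ∣ 24 := by
      refine (Sylow.card_dvd_index R).trans (dvd_of_eq ?_)
      have := (R : Subgroup ↥M).card_mul_index
      rw [hR, hN] at this
      omega
    have h4 := card_sylow_modEq_one 7 ↥M
    rw [Nat.ModEq] at h4
    have hle := Nat.le_of_dvd (by norm_num) h2
    generalize Nat.card (Sylow 7 ↥M) = k at h1 h2 h4 hle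
    interval_cases k <;> omega
  obtain ⟨⟨⟨w, hwM⟩, hwR⟩, hw⟩ := exists_prime_orderOf_dvd_card' (G := ↥(normalizer ((R : Subgroup ↥M) : Set ↥M))) 3 h3
  rw [Subgroup.orderOf_mk, Subgroup.orderOf_mk] at hw
  obtain ⟨i, hi⟩ : ∃ i : ℕ, y ^ i = w * y * w⁻¹ := by
    have h := (mem_normalizer_iff.1 hwR ⟨y, hyM⟩).1 hyR
    rw [hgen, ← mem_powers_iff_mem_zpowers] at h
    obtain ⟨i, hi⟩ := Submonoid.mem_powers_iff _ _ |>.1 h
    exact ⟨i, congrArg Subtype.val hi⟩
  refine ⟨y, w, i, hy, hi.symm, fun hsq => ?_⟩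
  -- `i³ = 1`, so `i = 1`
  have hpow : ∀ k : ℕ, w ^ k * y * (w ^ k)⁻¹ = y ^ i ^ k := by
    intro k
    induction k with
    | zero => simp
    | succ k ih =>
      rw [pow_succ', show w * w ^ k * y * (w * w ^ k)⁻¹ = w * (w ^ k * y * (w ^ k)⁻¹) * w⁻¹ by group, ih,
        ← conj_pow, ← hi, ← pow_mul, pow_succ']
  have hi3 : ((i : ℕ) : ZMod 7) ^ 3 = 1 := by
    have h := hpow 3
    rw [← hw, pow_orderOf_eq_one, one_mul, inv_one, mul_one, hw] at h
    have h' := (pow_inj_mod (x := y) (n := i ^ 3) (m := 1)).1 (by rw [← h, pow_one])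
    rw [hy] at h'
    have := (ZMod.natCast_eq_natCast_iff (i ^ 3) 1 7).2 h'
    push_cast at this
    exact this
  have hi1 : ((i : ℕ) : ZMod 7) = ((1 : ℕ) : ZMod 7) := by
    rw [Nat.cast_one, ← hi3, pow_succ, hsq, one_mul]
  have hwy : Commute w y := by
    have h1 : y ^ i = y := by
      refine Eq.trans ((pow_inj_mod (x := y) (n := i) (m := 1)).2 ?_) (pow_one y)
      rw [hy]
      exact (ZMod.natCast_eq_natCast_iff i 1 7).1 hi1
    exact mul_inv_eq_iff_eq_mul.1 (hi.symm.trans h1)
  set F := (T : Subgroup G) ⊓ centralizer ({w} : Set G) with hF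
  have hyF : y ∈ normalizer (F : Set G) := mem_normalizer_fintype fun v hv => by
    refine mem_inf.2 ⟨(mem_normalizer_iff.1 hyM v).1 hv.1, mem_centralizer_singleton_iff.2 ?_⟩
    have hvw : Commute v w := mem_centralizer_singleton_iff.1 hv.2
    exact ((hwy.symm.mul_left hvw).mul_left hwy.symm.inv_left).eq
  have hnotT : ∀ {z : G} {k : ℕ}, orderOf z = k → ¬ k ∣ 8 →
      Nat.card ↥((T : Subgroup G) ⊓ centralizer ({z} : Set G)) ≠ 8 := by
    intro z k hz hk h8
    have hTz : (T : Subgroup G) ≤ centralizer ({z} : Set G) := inf_eq_left.1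
      (eq_of_le_of_card_ge inf_le_left (by rw [h8, c.card]))
    have hzT := hCT (mem_centralizer_iff.2 fun x hx => mem_centralizer_singleton_iff.1 (hTz hx))
    have := (T : Subgroup G).orderOf_dvd_natCard hzT
    rw [hz, c.card] at this
    exact hk this
  have hm7 := ReeAb.card_modEq_fixed hy (Q := (T : Subgroup G)) hyM
  have hm3 := ReeAb.card_modEq_fixed hw (Q := (T : Subgroup G)) hwM
  have hmF := ReeAb.card_modEq_fixed hy hyF
  have hd1 : Nat.card ↥((T : Subgroup G) ⊓ centralizer ({y} : Set G)) ∣ 8 := c.card ▸ card_dvd_of_le inf_le_left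
  have hd2 : Nat.card ↥F ∣ 8 := c.card ▸ card_dvd_of_le inf_le_left
  have hle : Nat.card ↥(F ⊓ centralizer ({y} : Set G)) ≤ Nat.card ↥((T : Subgroup G) ⊓ centralizer ({y} : Set G)) :=
    card_le_of_le (inf_le_inf_right _ inf_le_left)
  have hpos : 0 < Nat.card ↥(F ⊓ centralizer ({y} : Set G)) := Nat.card_pos
  have h7' := hnotT hy (by norm_num)
  have h3' : Nat.card ↥F ≠ 8 := hnotT hw (by norm_num)
  rw [c.card, Nat.ModEq] at hm7 hm3
  rw [Nat.ModEq] at hmF
  rw [← hF] at hm3
  have hl1 := Nat.le_of_dvd (by norm_num) hd1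
  have hl2 := Nat.le_of_dvd (by norm_num) hd2
  have hp1 : 0 < Nat.card ↥((T : Subgroup G) ⊓ centralizer ({y} : Set G)) := Nat.card_pos
  omega

/-- The primes from 5 on other than `p` and their weights. -/
def SmallPrimes (G : Type u) [Group G] (p : ℕ) : Prop :=
  ∀ r : ℕ, r.Prime → 5 ≤ r → r ≠ p → r ∣ Nat.card G → ¬ r * r ∣ Nat.card G ∧ Weight G r

/-- The case `2 × A₄`. -/
theorem Cell.small_three {n : G} (hno : orderOf n = 3) (hnN : n ∈ N) (hnt : Commute n t)
    (hC : Nat.card ↥(centralizer ({t} : Set G)) = 24) (hCT : centralizer ((T : Subgroup G) : Set G) ≤ T) :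
    SmallPrimes G 3 := by
  classical
  haveI : Fact (Nat.Prime 2) := ⟨Nat.prime_two⟩
  have h168 := c.card_168 hno hnN hnt (hC ▸ by norm_num) hCT
  have hG : Nat.card G ∣ 1512 := by
    rcases c.dichotomy with hK | ⟨hs, hna⟩
    · haveI : ((T : Subgroup G)).Normal := hK ▸ invSub_normal
      have htop : normalizer ((T : Subgroup G) : Set G) = ⊤ := normalizer_eq_top_iff.2 inferInstance
      rw [htop, card_top] at h168
      rw [h168]
      norm_num
    haveI := hs
    set K := invSub G with hKdef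
    set TK : Sylow 2 ↥K := T.subtype c.T_le with hTK
    have hTKc : Nat.card ↥(TK : Subgroup ↥K) = 8 := by
      rw [hTK, Sylow.coe_subtype, Nat.card_congr (subgroupOfEquivOfLe c.T_le).toEquiv, c.card]
    have hab : Walter.AbTwo ↥K := by
      intro S x hx y hy
      obtain ⟨k, hk⟩ := MulAction.exists_smul_eq ↥K TK S
      rw [← hk] at hx hy
      rw [← SetLike.mem_coe, Sylow.coe_smul, Set.mem_smul_set] at hx hy
      obtain ⟨x', hx', rfl⟩ := hx
      obtain ⟨y', hy', rfl⟩ := hy
      rw [← smul_mul', ← smul_mul']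
      congr 1
      exact Subtype.ext (c.tcomm _ (mem_subgroupOf.1 hx') _ (mem_subgroupOf.1 hy')).eq
    rcases Walter.walterProp ↥K hna hab with hb | ⟨F, _, _, h8', -, ⟨f⟩⟩ | hJ
    · obtain ⟨-, -, ⟨ρ, hρN, hρ1, hρ2⟩, -, -⟩ := Walter.binary_facts hb TK
      obtain ⟨F, iF, iFt, ⟨m, hm, hF⟩, ⟨f⟩⟩ := hb
      have hK504 : Nat.card ↥K = 504 := by
        have hc := Cfsg.Lib.Classical.SmallPSL.card_psl (F := F) hF
        have hgcd : Nat.gcd 2 (2 ^ m - 1) = 1 := Nat.coprime_two_left.2 (Nat.Even.sub_odd Nat.one_le_two_pow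
          ((Nat.even_pow' (by omega)).2 even_two) odd_one)
        rw [hgcd, one_mul, ← Nat.card_congr f.toEquiv] at hc
        have hodd : Odd ((2 ^ m) ^ 2 - 1) := Nat.Even.sub_odd (Nat.one_le_pow _ _ (by positivity))
          ((Nat.even_pow' two_ne_zero).2 ((Nat.even_pow' (by omega)).2 even_two)) odd_one
        have h1 : 2 ^ m ≤ 8 := hTKc ▸ Nat.le_of_dvd Nat.card_pos
          (TK.pow_dvd_card_of_pow_dvd_card (hc ▸ dvd_mul_right _ _))
        have h2 : 2 ^ 3 ∣ 2 ^ m := by
          have h3 : 2 ^ 3 ∣ Nat.card ↥K := (by norm_num [hTKc] : (2:ℕ) ^ 3 ∣ Nat.card ↥(TK : Subgroup ↥K)).trans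
            (card_subgroup_dvd_card _)
          rw [hc] at h3
          exact ((Nat.coprime_two_left.2 hodd).pow_left 3).dvd_of_dvd_mul_right h3
        have h4 := Nat.le_of_dvd (by positivity) h2
        rw [hc, show (2 : ℕ) ^ m = 8 by omega]
        norm_num
      have h7 : 7 ∣ orderOf ρ := by
        by_contra h
        rw [hTKc] at hρ2
        obtain ⟨x, hx, hx1⟩ : ∃ x ∈ (TK : Subgroup ↥K), x ≠ 1 := ⟨⟨t, c.T_le c.tT⟩, c.tT, fun e => by
          have := c.ord
          rw [show t = 1 from congrArg Subtype.val e, orderOf_one] at this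
          omega⟩
        exact hx1 (hρ2 (orderOf ρ) h x hx (by rw [pow_orderOf_eq_one, one_mul, inv_one, mul_one]))
      have h56 : 56 ∣ Nat.card ↥(K ⊓ normalizer ((T : Subgroup G) : Set G)) := by
        refine Nat.Coprime.mul_dvd_of_dvd_of_dvd (by norm_num : Nat.Coprime 8 7) ?_ (h7.trans ?_)
        · rw [← c.card]; exact card_dvd_of_le (le_inf c.T_le le_normalizer)
        · rw [← orderOf_coe]
          refine Subgroup.orderOf_dvd_natCard _ (mem_inf.2 ⟨ρ.2, mem_normalizer_fintype fun v hv => ?_⟩)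
          exact mem_subgroupOf.1 ((mem_normalizer_iff.1 hρN ⟨v, c.T_le hv⟩).1 (mem_subgroupOf.2 hv))
      have he := c.card_mul
      rw [← hKdef, hK504, h168] at he
      obtain ⟨k, hk⟩ := h56
      rw [hk] at he
      exact ⟨k, by
        have : 56 * (Nat.card G * k) = 56 * 1512 := by rw [← mul_assoc, mul_comm 56, mul_assoc, he]
        exact (Nat.eq_of_mul_eq_mul_left (by norm_num) this).symm⟩
    · exfalso
      haveI hk := Cfsg.Agent.S0276.result rfl h8' (TK.mapSurjective (f := f.toMonoidHom) f.surjective)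
      have h := hk.card_four
      have : Nat.card ↥(TK : Subgroup ↥K) = 4 := h ▸
        (card_map_of_injective (f := f.toMonoidHom) f.injective (K := (TK : Subgroup ↥K))).symm
      omega
    · exfalso
      obtain ⟨-, s, E, E₀, F, _, _, h5, -, h⟩ := hJ
      obtain ⟨g, hg⟩ := c.conj_T (x := (s : G)) (by rw [orderOf_coe, h.ord])
      have hle : E₀.map K.subtype ≤ centralizer ({(s : G)} : Set G) := by
        rintro _ ⟨e, he, rfl⟩
        exact mem_centralizer_singleton_iff.2 ((h.comm e (h.le he)).symm.map K.subtype).eq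
      have hle' : (centralizer ({(s : G)} : Set G)).map (MulAut.conj g⁻¹).toMonoidHom ≤ centralizer ({t} : Set G) := by
        rintro _ ⟨z, hz, rfl⟩
        refine mem_centralizer_singleton_iff.2 ?_
        have := (show Commute z (s : G) from mem_centralizer_singleton_iff.1 hz).map (MulAut.conj g⁻¹).toMonoidHom
        rw [← hg] at this
        simpa [mul_assoc] using this.eq
      have h1 := (card_le_of_le hle).trans (le_of_eq
        (card_map_of_injective (f := (MulAut.conj g⁻¹).toMonoidHom) (MulAut.conj g⁻¹).injective).symm)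
      have h2 := h1.trans (card_le_of_le hle')
      rw [card_map_of_injective K.subtype_injective, hC] at h2
      obtain ⟨f⟩ := h.iso
      have hc := Cfsg.Lib.Classical.SmallPSL.card_psl (F := F) rfl
      rw [← Nat.card_congr f.toEquiv] at hc
      have hg2 : Nat.gcd 2 (Fintype.card F - 1) ≤ 2 := Nat.le_of_dvd two_pos (Nat.gcd_dvd_left _ _)
      have h25 : 24 ≤ Fintype.card F ^ 2 - 1 := by
        have : 25 ≤ Fintype.card F ^ 2 := Nat.pow_le_pow_left h5 2
        omega
      have h6 := Nat.mul_le_mul h5 h25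
      have h7 := Nat.mul_le_mul hg2 (le_refl (Nat.card ↥E₀))
      omega
  intro r hr h5 _ hrd
  have hr7 : r = 7 := by
    have h := hrd.trans hG
    rw [show (1512 : ℕ) = 2 ^ 3 * 3 ^ 3 * 7 by norm_num] at h
    rcases (Nat.Prime.dvd_mul hr).1 h with h | h
    · rcases (Nat.Prime.dvd_mul hr).1 h with h | h
      · have := (Nat.prime_dvd_prime_iff_eq hr Nat.prime_two).1 (hr.dvd_of_dvd_pow h); omega
      · have := (Nat.prime_dvd_prime_iff_eq hr Nat.prime_three).1 (hr.dvd_of_dvd_pow h); omega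
    · exact (Nat.prime_dvd_prime_iff_eq hr (by norm_num)).1 h
  subst hr7
  exact ⟨fun h => absurd (h.trans hG) (by norm_num), c.weight_seven h168 hCT⟩

/-- With a linear fractional group in the centraliser the subgroup generated by the involutions is simple. -/
theorem Cell.simple_of_hyp {E E₀ : Subgroup G} {F : Type} [Field F] [Fintype F] (h : AbCentMax.Hyp t E E₀ F)
    (h5 : 5 ≤ Fintype.card F) {a b n : G} (S : AbCentMax.Sys t E₀ T a b n) :
    IsSimpleGroup ↥(invSub G) ∧ ¬ IsMulCommutative ↥(invSub G) ∧ E₀ ≤ invSub G ∧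
      AbCentMax.Hyp (⟨t, c.T_le c.tT⟩ : ↥(invSub G)) (E.subgroupOf (invSub G)) (E₀.subgroupOf (invSub G)) F := by
  classical
  obtain ⟨f⟩ := h.iso
  haveI : IsSimpleGroup (Matrix.ProjectiveSpecialLinearGroup (Fin 2) F) :=
    Matrix.ProjectiveSpecialLinearGroup.rank_two_simple (by rw [Nat.card_eq_fintype_card]; omega)
  haveI : Nontrivial ↥E₀ := f.toEquiv.nontrivial
  haveI : IsSimpleGroup ↥E₀ := IsSimpleGroup.isSimpleGroup_of_surjective f.symm.toMonoidHom f.symm.surjective
  have hle : E₀ ≤ invSub G := by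
    refine subgroupOf_eq_top.1 ((IsSimpleGroup.eq_bot_or_eq_top_of_normal _
      (inferInstance : ((invSub G).subgroupOf E₀).Normal)).resolve_left fun e => ?_)
    have : (⟨a, S.aE⟩ : ↥E₀) ∈ (invSub G).subgroupOf E₀ := c.T_le S.aT
    rw [e, mem_bot] at this
    have h2 := S.ao
    rw [show a = 1 from congrArg Subtype.val this, orderOf_one] at h2
    omega
  obtain ⟨hs, hna⟩ := c.dichotomy.resolve_left fun hK => by
    have h1 := card_le_of_le (hK ▸ hle)
    rw [c.card] at h1
    have hc := Cfsg.Lib.Classical.SmallPSL.card_psl (F := F) rfl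
    rw [← Nat.card_congr f.toEquiv] at hc
    have hg2 : Nat.gcd 2 (Fintype.card F - 1) ≤ 2 := Nat.le_of_dvd two_pos (Nat.gcd_dvd_left _ _)
    have h25 : 24 ≤ Fintype.card F ^ 2 - 1 := by
      have : 25 ≤ Fintype.card F ^ 2 := Nat.pow_le_pow_left h5 2
      omega
    have h6 := Nat.mul_le_mul h5 h25
    have h7 := Nat.mul_le_mul hg2 h1
    omega
  refine ⟨hs, hna, hle, ?_⟩
  refine ⟨by rw [Subgroup.orderOf_mk, h.ord], fun e he => Subtype.ext (h.comm e (mem_subgroupOf.1 he)).eq,
    fun x hx => ?_, fun ht => h.disj (mem_subgroupOf.1 ht), fun e he => mem_subgroupOf.2 (h.le (mem_subgroupOf.1 he)),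
    fun e he x hx => mem_subgroupOf.2 (h.norm e (mem_subgroupOf.1 he) x (mem_subgroupOf.1 hx)),
    fun e he hall => Subtype.ext (h.faith e (mem_subgroupOf.1 he) fun x hx =>
      congrArg Subtype.val (hall ⟨x, hle hx⟩ (mem_subgroupOf.2 hx)).eq), h.odd,
    ⟨(subgroupOfEquivOfLe hle).trans f⟩⟩
  obtain ⟨e, he, r⟩ := h.split x (congrArg Subtype.val hx.eq)
  have heK : e ∈ invSub G := by
    rcases r with r | r
    · exact r ▸ x.2
    · rw [show e = t * (x : G) by rw [r, ← mul_assoc, h.tt, one_mul]]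
      exact mul_mem (c.T_le c.tT) x.2
  exact ⟨⟨e, heK⟩, mem_subgroupOf.2 he, r.imp (fun r => Subtype.ext r) fun r => Subtype.ext r⟩

/-- The case `2 × A₅`. -/
theorem Cell.small_five {E : Subgroup G} {F : Type} [Field F] [Fintype F] (h : AbCentMax.Hyp t E E F)
    (h5 : Fintype.card F = 5) {a b n : G} (S : AbCentMax.Sys t E T a b n) (hnN : n ∈ N)
    (hCT : centralizer ((T : Subgroup G) : Set G) ≤ T) : SmallPrimes G 5 := by
  classical
  haveI : Fact (Nat.Prime 2) := ⟨Nat.prime_two⟩
  have hnt : Commute n t := (h.comm n S.nE).symm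
  have h168 := c.card_168 S.no hnN hnt (cent_card h h5).dvd hCT
  obtain ⟨hs, hna, hle, hH⟩ := c.simple_of_hyp h (by omega) S
  haveI := hs
  set K := invSub G with hKdef
  set M := normalizer ((T : Subgroup G) : Set G) with hMdef
  obtain ⟨e⟩ := cent_iso hH h5
  have htwo : Cfsg.IsTwoCentralInvolution (⟨t, c.T_le c.tT⟩ : ↥K) :=
    ⟨by rw [Subgroup.orderOf_mk, c.ord], T.subtype c.T_le, c.tT, fun x hx =>
      Subtype.ext (c.tcomm _ (mem_subgroupOf.1 hx) t c.tT).eq⟩
  have hK : Nat.card ↥K = 175560 := JankoOne.isJOne _ htwo e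
  -- the subgroup generated by the involutions is transitive, hence everything
  have htr := trans_sub S (fun ht => h.disj ht) (le_refl M) (inf_le_right (a := K) (b := M))
    (fun w hw z hz => mem_inf.2 ⟨(invSub_normal (G := G)).conj_mem z hz.1 w,
      mul_mem (mul_mem hw hz.2) (inv_mem hw)⟩) c.trans (mem_inf.2 ⟨hle S.nE, hnN⟩) hnt
  have hKM : Nat.card ↥(K ⊓ M) = 168 := by
    have h1 := c.card_trans (H := K ⊓ M) inf_le_right htr
    have h2 : 24 ∣ Nat.card ↥(K ⊓ M ⊓ centralizer ({t} : Set G)) := by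
      refine Nat.Coprime.mul_dvd_of_dvd_of_dvd (by norm_num : Nat.Coprime 8 3) ?_ ?_
      · rw [← c.card]
        exact card_dvd_of_le (le_inf (le_inf c.T_le le_normalizer) fun x hx =>
          mem_centralizer_singleton_iff.2 (c.tcomm x hx t c.tT).eq)
      · rw [← S.no]
        exact Subgroup.orderOf_dvd_natCard _
          (mem_inf.2 ⟨mem_inf.2 ⟨hle S.nE, hnN⟩, mem_centralizer_singleton_iff.2 hnt.eq⟩)
    refine Nat.dvd_antisymm (h168 ▸ card_dvd_of_le inf_le_right) ?_
    rw [h1]
    exact Nat.mul_dvd_mul_left 7 h2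
  have hG : Nat.card G = 175560 := by
    have he := c.card_mul
    rw [← hKdef, ← hMdef, hKM, hK, h168] at he
    exact Nat.eq_of_mul_eq_mul_right (by norm_num : 0 < 168) he
  intro r hr h5r hr5 hrd
  rw [hG] at hrd
  have hr' : r = 7 ∨ r = 11 ∨ r = 19 := by
    rw [show (175560 : ℕ) = 2 ^ 3 * 3 * 5 * 7 * 11 * 19 by norm_num] at hrd
    have hq : ∀ q, q.Prime → r ∣ q → r = q := fun q hq h => (Nat.prime_dvd_prime_iff_eq hr hq).1 h
    rcases (Nat.Prime.dvd_mul hr).1 hrd with h | h
    · rcases (Nat.Prime.dvd_mul hr).1 h with h | h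
      · rcases (Nat.Prime.dvd_mul hr).1 h with h | h
        · rcases (Nat.Prime.dvd_mul hr).1 h with h | h
          · rcases (Nat.Prime.dvd_mul hr).1 h with h | h
            · have := hq 2 Nat.prime_two (hr.dvd_of_dvd_pow h); omega
            · have := hq 3 Nat.prime_three h; omega
          · exact absurd (hq 5 (by norm_num) h) hr5
        · exact Or.inl (hq 7 (by norm_num) h)
      · exact Or.inr (Or.inl (hq 11 (by norm_num) h))
    · exact Or.inr (Or.inr (hq 19 (by norm_num) h))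
  refine ⟨by rw [hG]; rcases hr' with rfl | rfl | rfl <;> norm_num, ?_⟩
  rcases hr' with rfl | hr'
  · exact c.weight_seven h168 hCT
  haveI := Fact.mk hr
  obtain ⟨y, z, i, hy, hz, hi⟩ := Ree.Transfer.jone_weight hna _ htwo e hr'
  exact ⟨y, z, i, by rw [orderOf_coe, hy], by exact_mod_cast congrArg Subtype.val hz, hi⟩

end Cfsg.Lib.SylowAb
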