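import Cfsg.Agent.ReeAbelian.Local
import Cfsg.Agent.AltEightType.Core

/-!
Groups with a Sylow 2-subgroup of order 8 whose involutions are fused in its normalizer, without odd normal
subgroups: the subgroup generated by the involutions, and transitivity in normal subgroups of the normalizer.
-/

set_option autoImplicit false
set_option linter.unusedSectionVars false
set_option linter.style.haveILetI false

namespace Cfsg.Lib.SylowAb

open Subgroup
open scoped Pointwise

universe u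

variable {G : Type u} [Group G] [Finite G]

/-- A normal part of a transitive group on the involutions of `T` containing the element of order three is
transitive. -/
theorem trans_sub {E₀ W H : Subgroup G} {T : Sylow 2 G} {t a b n : G} (S : AbCentMax.Sys t E₀ T a b n)
    (htE : t ∉ E₀) (hWN : W ≤ normalizer ((T : Subgroup G) : Set G)) (hHW : H ≤ W)
    (hnorm : ∀ w ∈ W, ∀ h ∈ H, w * h * w⁻¹ ∈ H)
    (htr : ∀ x ∈ T, x ≠ 1 → ∃ w ∈ W, w * t * w⁻¹ = x) (hn : n ∈ H) (hnt : Commute n t) :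
    ∀ x ∈ T, x ≠ 1 → ∃ h ∈ H, h * t * h⁻¹ = x := by
  classical
  have ha1 : a ≠ 1 := fun e => by have := S.ao; rw [e, orderOf_one] at this; omega
  have hb1 : b ≠ 1 := fun e => by have := S.bo; rw [e, orderOf_one] at this; omega
  have hbb : b * b = 1 := by rw [← pow_two, ← S.bo, pow_orderOf_eq_one]
  have hab1 : a * b ≠ 1 := fun e => S.ne (by
    rw [← mul_one a, ← hbb, ← mul_assoc, e, one_mul])
  have hanab : a ≠ a * b := fun e => hb1 (mul_eq_left.1 e.symm)
  have hbnab : b ≠ a * b := fun e => ha1 (mul_eq_right.1 e.symm)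
  have hnab : n * (a * b) * n⁻¹ = a := by
    rw [show n * (a * b) * n⁻¹ = (n * a * n⁻¹) * (n * b * n⁻¹) by group, S.na, S.nb,
      (S.tcomm a S.aT b S.bT).eq, ← mul_assoc, hbb, one_mul]
  have htv : ∀ v, n * (t * v) * n⁻¹ = t * (n * v * n⁻¹) := fun v => by
    rw [show n * (t * v) * n⁻¹ = (n * t * n⁻¹) * (n * v * n⁻¹) by group, hnt.eq, mul_inv_cancel_right]
  have habE : a * b ∈ E₀ := mul_mem S.aE S.bE
  have hd : ∀ v ∈ E₀, t ≠ v := fun v hv e => htE (e ▸ hv)
  have hd' : ∀ v ∈ E₀, ∀ w ∈ E₀, v ≠ t * w := fun v hv w hw e =>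
    htE (by simpa [e] using mul_mem hv (inv_mem hw))
  set O : Set G := {x | ∃ h ∈ H, h * t * h⁻¹ = x} with hO
  have hcl : ∀ x ∈ O, n * x * n⁻¹ ∈ O := by
    rintro x ⟨h, hh, rfl⟩
    exact ⟨n * h, mul_mem hn hh, by group⟩
  have hA : (a ∈ O ∨ b ∈ O ∨ a * b ∈ O) → a ∈ O ∧ b ∈ O ∧ a * b ∈ O := by
    rintro (e | e | e)
    · exact ⟨e, S.na ▸ hcl a e, S.nb ▸ hcl b (S.na ▸ hcl a e)⟩
    · exact ⟨hnab ▸ hcl _ (S.nb ▸ hcl b e), e, S.nb ▸ hcl b e⟩
    · exact ⟨hnab ▸ hcl _ e, S.na ▸ hcl a (hnab ▸ hcl _ e), e⟩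
  have ha' : n * (t * a) * n⁻¹ = t * b := by rw [htv, S.na]
  have hb' : n * (t * b) * n⁻¹ = t * (a * b) := by rw [htv, S.nb]
  have hab' : n * (t * (a * b)) * n⁻¹ = t * a := by rw [htv, hnab]
  have hB : (t * a ∈ O ∨ t * b ∈ O ∨ t * (a * b) ∈ O) → t * a ∈ O ∧ t * b ∈ O ∧ t * (a * b) ∈ O := by
    rintro (e | e | e)
    · exact ⟨e, ha' ▸ hcl _ e, hb' ▸ hcl _ (ha' ▸ hcl _ e)⟩
    · exact ⟨hab' ▸ hcl _ (hb' ▸ hcl _ e), e, hb' ▸ hcl _ e⟩
    · exact ⟨hab' ▸ hcl _ e, ha' ▸ hcl _ (hab' ▸ hcl _ e), e⟩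
  have ht1 : t ≠ 1 := fun e => htE (e ▸ one_mem _)
  have htO : t ∈ O := ⟨1, one_mem _, by simp⟩
  have hT : ∀ h ∈ H, ∀ x ∈ T, h * x * h⁻¹ ∈ T := fun h hh x hx => (mem_normalizer_iff.1 (hWN (hHW hh)) x).1 hx
  -- conjugating an orbit by the transitive group
  have htrans : ∀ u ∈ W, ∀ x ∈ O, ∀ h₀ ∈ H,
      ∃ h ∈ H, h * (h₀ * (u * t * u⁻¹) * h₀⁻¹) * h⁻¹ = u * x * u⁻¹ := by
    rintro u hu x ⟨h, hh, rfl⟩ h₀ hh₀
    exact ⟨u * h * u⁻¹ * h₀⁻¹, mul_mem (hnorm u hu h hh) (inv_mem hh₀), by group⟩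
  have hcases : ∀ x ∈ T, x ≠ 1 →
      x = t ∨ (x = a ∨ x = b ∨ x = a * b) ∨ (x = t * a ∨ x = t * b ∨ x = t * (a * b)) := by
    intro x hx hx1
    obtain ⟨v, hv, r | r⟩ := S.cases x hx
    · rcases hv with e | e | e | e <;> rw [e] at r <;> rw [r]
      · exact absurd r hx1
      all_goals simp
    · rcases hv with e | e | e | e <;> rw [e] at r <;> rw [r] <;> simp
  obtain ⟨y, hyO, hyt⟩ : ∃ y ∈ O, y ≠ t := by
    obtain ⟨w, hw, hwa⟩ := htr a S.aT ha1
    refine ⟨(w⁻¹ * n * w) * t * (w⁻¹ * n * w)⁻¹, ⟨_, by simpa using hnorm _ (inv_mem hw) n hn, rfl⟩, fun e => ?_⟩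
    refine S.ne ?_
    rw [← hwa, ← S.na, ← hwa]
    conv_lhs => rw [← e]
    group
  have hyT : y ∈ T ∧ y ≠ 1 := by
    obtain ⟨h, hh, rfl⟩ := hyO
    exact ⟨hT h hh t S.tT, fun e => ht1 (by rwa [mul_inv_eq_one, mul_eq_left] at e)⟩
  -- four conjugates cannot go into three points
  have hfour : ∀ (u : G) (x₁ x₂ x₃ y₁ y₂ y₃ : G), t ≠ x₁ → t ≠ x₂ → t ≠ x₃ → x₁ ≠ x₂ → x₁ ≠ x₃ → x₂ ≠ x₃ →
      (∀ x ∈ ({t, x₁, x₂, x₃} : Set G), u * x * u⁻¹ ∈ ({y₁, y₂, y₃} : Set G)) → False := by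
    intro u x₁ x₂ x₃ y₁ y₂ y₃ h1 h2 h3 h4 h5 h6 hall
    have hsub : (fun x => u * x * u⁻¹) '' ({t, x₁, x₂, x₃} : Set G) ⊆ {y₁, y₂, y₃} := by
      rintro _ ⟨x, hx, rfl⟩
      exact hall x hx
    have hle := Set.ncard_le_ncard hsub (Set.toFinite _)
    rw [Set.ncard_image_of_injective _ (fun x x' e => mul_left_cancel (mul_right_cancel e)),
      Set.ncard_eq_four.2 ⟨t, x₁, x₂, x₃, h1, h2, h3, h4, h5, h6, rfl⟩] at hle
    have h3' : ({y₁, y₂, y₃} : Set G).ncard ≤ 3 := by
      refine (Set.ncard_insert_le _ _).trans (Nat.succ_le_succ ?_)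
      exact (Set.ncard_insert_le _ _).trans (by rw [Set.ncard_singleton])
    omega
  intro x hx hx1
  show x ∈ O
  by_cases hAO : a ∈ O <;> by_cases hBO : t * a ∈ O
  · obtain ⟨-, h2, h3⟩ := hA (Or.inl hAO)
    obtain ⟨-, h5, h6⟩ := hB (Or.inl hBO)
    rcases hcases x hx hx1 with r | (r | r | r) | (r | r | r) <;> rw [r] <;> assumption
  · exfalso
    obtain ⟨-, h2, h3⟩ := hA (Or.inl hAO)
    obtain ⟨u, hu, hut⟩ := htr (t * a) ((T : Subgroup G).mul_mem S.tT S.aT)
      (fun e => hd' 1 (one_mem _) a S.aE e.symm)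
    refine hfour u a b (a * b) (t * a) (t * b) (t * (a * b)) (hd a S.aE) (hd b S.bE) (hd _ habE) S.ne hanab hbnab
      fun z hz => ?_
    have hzO : z ∈ O := by
      simp only [Set.mem_insert_iff, Set.mem_singleton_iff] at hz
      rcases hz with r | r | r | r <;> rw [r] <;> assumption
    obtain ⟨h, hh, he⟩ := htrans u hu z hzO 1 (one_mem _)
    rw [one_mul, inv_one, mul_one, hut] at he
    rw [← he]
    have hm := hT h hh _ ((T : Subgroup G).mul_mem S.tT S.aT)
    have hnot : h * (t * a) * h⁻¹ ∉ O := by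
      rintro ⟨k, hk, e⟩
      exact hBO ⟨h⁻¹ * k, mul_mem (inv_mem hh) hk, by
        rw [show h⁻¹ * k * t * (h⁻¹ * k)⁻¹ = h⁻¹ * (k * t * k⁻¹) * h by group, e]; group⟩
    rcases hcases _ hm (fun e => hd' 1 (one_mem _) a S.aE (by
        rw [mul_inv_eq_one, mul_eq_left] at e; exact e.symm)) with r | (r | r | r) | (r | r | r)
    all_goals first
      | (rw [r]; simp; done)
      | (exfalso; rw [r] at hnot; exact hnot (by assumption))
  · exfalso
    obtain ⟨-, h2, h3⟩ := hB (Or.inl hBO)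
    obtain ⟨u, hu, hut⟩ := htr a S.aT ha1
    refine hfour u (t * a) (t * b) (t * (a * b)) a b (a * b) (fun e => ha1 (mul_eq_left.1 e.symm))
      (fun e => hb1 (mul_eq_left.1 e.symm)) (fun e => hab1 (mul_eq_left.1 e.symm))
      (fun e => S.ne (mul_left_cancel e)) (fun e => hanab (mul_left_cancel e))
      (fun e => hbnab (mul_left_cancel e)) fun z hz => ?_
    have hzO : z ∈ O := by
      simp only [Set.mem_insert_iff, Set.mem_singleton_iff] at hz
      rcases hz with r | r | r | r <;> rw [r] <;> assumption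
    obtain ⟨h, hh, he⟩ := htrans u hu z hzO 1 (one_mem _)
    rw [one_mul, inv_one, mul_one, hut] at he
    rw [← he]
    have hm := hT h hh _ S.aT
    have hnot : h * a * h⁻¹ ∉ O := by
      rintro ⟨k, hk, e⟩
      exact hAO ⟨h⁻¹ * k, mul_mem (inv_mem hh) hk, by
        rw [show h⁻¹ * k * t * (h⁻¹ * k)⁻¹ = h⁻¹ * (k * t * k⁻¹) * h by group, e]; group⟩
    rcases hcases _ hm (fun e => ha1 (by rwa [mul_inv_eq_one, mul_eq_left] at e)) with r | (r | r | r) | (r | r | r)
    all_goals first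
      | (rw [r]; simp; done)
      | (exfalso; rw [r] at hnot; exact hnot (by assumption))
  · exfalso
    rcases hcases y hyT.1 hyT.2 with r | (r | r | r) | (r | r | r) <;> rw [r] at hyO
    · exact hyt r
    · exact hAO hyO
    · exact hAO (hA (Or.inr (Or.inl hyO))).1
    · exact hAO (hA (Or.inr (Or.inr hyO))).1
    · exact hBO hyO
    · exact hBO (hB (Or.inr (Or.inl hyO))).1
    · exact hBO (hB (Or.inr (Or.inr hyO))).1

/-- A Sylow 2-subgroup of order 8 with fused involutions, and no odd normal subgroups. -/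
structure Cell (T : Sylow 2 G) (t : G) : Prop where
  card : Nat.card ↥(T : Subgroup G) = 8
  tcomm : ∀ x ∈ T, ∀ y ∈ T, Commute x y
  tT : t ∈ T
  ord : orderOf t = 2
  trans : ∀ x ∈ T, x ≠ 1 → ∃ g ∈ normalizer ((T : Subgroup G) : Set G), g * t * g⁻¹ = x
  core : ∀ L : Subgroup G, L.Normal → Odd (Nat.card L) → L = ⊥

/-- The subgroup generated by the involutions. -/
def invSub (G : Type u) [Group G] : Subgroup G := closure {x : G | orderOf x = 2}

instance invSub_normal : (invSub G).Normal := by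
  refine ⟨fun x hx g => ?_⟩
  induction hx using Subgroup.closure_induction with
  | mem y hy =>
    refine subset_closure ?_
    show orderOf (g * y * g⁻¹) = 2
    rw [show g * y * g⁻¹ = (MulAut.conj g) y from rfl, MulEquiv.orderOf_eq]
    exact hy
  | one => simp
  | mul y z _ _ ihy ihz => rw [show g * (y * z) * g⁻¹ = (g * y * g⁻¹) * (g * z * g⁻¹) by group]; exact mul_mem ihy ihz
  | inv y _ ih => rw [show g * y⁻¹ * g⁻¹ = (g * y * g⁻¹)⁻¹ by group]; exact inv_mem ih

variable {T : Sylow 2 G} {t : G} (c : Cell T t)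
include c

theorem Cell.order_two {x : G} (hx : x ∈ T) (hx1 : x ≠ 1) : orderOf x = 2 := by
  obtain ⟨g, -, rfl⟩ := c.trans x hx hx1
  rw [show g * t * g⁻¹ = (MulAut.conj g) t from rfl, MulEquiv.orderOf_eq, c.ord]

theorem Cell.T_le : (T : Subgroup G) ≤ invSub G := fun x hx => by
  by_cases h1 : x = 1
  · exact h1 ▸ one_mem _
  · exact subset_closure (c.order_two hx h1)

theorem Cell.conj_T {x : G} (hx : orderOf x = 2) : ∃ g, g * t * g⁻¹ = x := by
  haveI : Fact (Nat.Prime 2) := ⟨Nat.prime_two⟩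
  obtain ⟨R, hR⟩ := (IsPGroup.of_card (G := zpowers x) (n := 1)
    (by rw [Nat.card_zpowers, hx, pow_one])).exists_le_sylow
  obtain ⟨k, hk⟩ := MulAction.exists_smul_eq G T R
  have hxk : k⁻¹ * x * k ∈ T := by
    have := hk.symm ▸ hR (mem_zpowers x)
    rw [Sylow.coe_subgroup_smul, mem_pointwise_smul_iff_inv_smul_mem] at this
    simp at this
    exact this
  obtain ⟨g, -, hg⟩ := c.trans _ hxk (fun e => by
    rw [show x = k * (k⁻¹ * x * k) * k⁻¹ by group, e] at hx; simp at hx)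
  exact ⟨k * g, by rw [show k * g * t * (k * g)⁻¹ = k * (g * t * g⁻¹) * k⁻¹ by group, hg]; group⟩

/-- Frattini, as a formula for the orders. -/
theorem Cell.card_mul :
    Nat.card G * Nat.card ↥(invSub G ⊓ normalizer ((T : Subgroup G) : Set G)) =
      Nat.card ↥(invSub G) * Nat.card ↥(normalizer ((T : Subgroup G) : Set G)) := by
  haveI : Fact (Nat.Prime 2) := ⟨Nat.prime_two⟩
  set N := normalizer ((T : Subgroup G) : Set G)
  have htop : N ⊔ invSub G = ⊤ := Sylow.normalizer_sup_eq_top' T c.T_le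
  have h1 : (invSub G).index = (invSub G).relIndex N := by
    rw [← relIndex_top_right, ← htop, sup_comm, relIndex_sup_left]
  have h2 : Nat.card N = Nat.card ↥(invSub G ⊓ N) * (invSub G).relIndex N := by
    rw [← inf_relIndex_right, ← Nat.card_congr (subgroupOfEquivOfLe (inf_le_right (a := invSub G) (b := N))).toEquiv]
    exact (card_mul_index _).symm
  rw [h2, ← h1, ← (invSub G).card_mul_index]
  ring

/-- A normal subgroup of the subgroup generated by the involutions contains an involution of `T`. -/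
theorem Cell.exists_inv {M : Subgroup G} (hMK : M ≤ invSub G) (hn : invSub G ≤ normalizer (M : Set G))
    (hM : M ≠ ⊥) : ∃ x ∈ M, x ∈ T ∧ orderOf x = 2 := by
  haveI : Fact (Nat.Prime 2) := ⟨Nat.prime_two⟩
  haveI : (M.subgroupOf (invSub G)).Normal := normal_subgroupOf_of_le_normalizer hn
  have heven : ¬ Odd (Nat.card M) := fun hodd => hM (by
    haveI : (Cfsg.oddCore ↥(invSub G)).Characteristic := Cfsg.Lib.Components.pPrimeCore_characteristic
    have hcore := c.core ((Cfsg.oddCore ↥(invSub G)).map (invSub G).subtype) inferInstance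
      (by rw [card_map_of_injective (invSub G).subtype_injective]; exact AltEightType.odd_oddCore _)
    have hle : M.subgroupOf (invSub G) ≤ Cfsg.oddCore ↥(invSub G) := AltEightType.le_oddCore
      (by rw [Nat.card_congr (subgroupOfEquivOfLe hMK).toEquiv]; exact hodd)
    refine eq_bot_iff.2 fun x hx => ?_
    rw [← hcore]
    exact ⟨⟨x, hMK hx⟩, hle (mem_subgroupOf.2 hx), rfl⟩)
  obtain ⟨⟨z, hzM⟩, hz⟩ := exists_prime_orderOf_dvd_card' (G := M) 2
    (even_iff_two_dvd.1 (Nat.not_odd_iff_even.1 heven))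
  rw [Subgroup.orderOf_mk] at hz
  -- move it into `T` inside the subgroup generated by the involutions
  set TK : Sylow 2 ↥(invSub G) := T.subtype c.T_le
  obtain ⟨R, hR⟩ := (IsPGroup.of_card (G := zpowers (⟨z, hMK hzM⟩ : ↥(invSub G))) (p := 2) (n := 1)
    (by rw [Nat.card_zpowers, Subgroup.orderOf_mk, hz, pow_one])).exists_le_sylow
  obtain ⟨k, hk⟩ := MulAction.exists_smul_eq ↥(invSub G) R TK
  have hmem : k * ⟨z, hMK hzM⟩ * k⁻¹ ∈ (TK : Subgroup ↥(invSub G)) := by
    rw [← hk, Sylow.coe_subgroup_smul]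
    exact ⟨_, hR (mem_zpowers _), rfl⟩
  refine ⟨(k : G) * z * (k : G)⁻¹, (mem_normalizer_iff.1 (hn k.2) z).1 hzM, mem_subgroupOf.1 hmem, ?_⟩
  rw [show (k : G) * z * (k : G)⁻¹ = (MulAut.conj (k : G)) z from rfl, MulEquiv.orderOf_eq, hz]

theorem Cell.four_le (hc : ¬ ∀ x ∈ invSub G, Commute x t) {M : Subgroup G} (hMK : M ≤ invSub G)
    (hn : invSub G ≤ normalizer (M : Set G)) (hM : M ≠ ⊥) : 4 ≤ Nat.card ↥((T : Subgroup G) ⊓ M) := by
  classical
  haveI : Fact (Nat.Prime 2) := ⟨Nat.prime_two⟩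
  obtain ⟨x, hxM, hxT, hxo⟩ := c.exists_inv hMK hn hM
  by_contra h4
  have hdvd : Nat.card ↥((T : Subgroup G) ⊓ M) ∣ 2 ^ 3 := by
    rw [show (2 : ℕ) ^ 3 = Nat.card ↥(T : Subgroup G) by rw [c.card]; norm_num]
    exact card_dvd_of_le inf_le_left
  obtain ⟨j, hj3, hj⟩ := (Nat.dvd_prime_pow Nat.prime_two).1 hdvd
  have hj1 : 2 ≤ Nat.card ↥((T : Subgroup G) ⊓ M) := by
    have h := card_le_of_le (zpowers_le.2 (mem_inf.2 ⟨hxT, hxM⟩))
    rwa [Nat.card_zpowers, hxo] at h
  have hcard : Nat.card ↥((T : Subgroup G) ⊓ M) = 2 := by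
    interval_cases j <;> omega
  -- a Sylow subgroup of `M` has order two
  obtain ⟨P, hP⟩ := (IsPGroup.of_card (G := zpowers (⟨x, hxM⟩ : ↥M)) (p := 2) (n := 1)
    (by rw [Nat.card_zpowers, Subgroup.orderOf_mk, hxo, pow_one])).exists_le_sylow
  have hPcard : Nat.card ↥(P : Subgroup ↥M) = 2 := by
    set TK : Sylow 2 ↥(invSub G) := T.subtype c.T_le
    set P₁ : Subgroup ↥(invSub G) := (P : Subgroup ↥M).map (inclusion hMK)
    obtain ⟨R, hR⟩ := (show IsPGroup 2 ↥P₁ from P.2.map _).exists_le_sylow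
    obtain ⟨k, hk⟩ := MulAction.exists_smul_eq ↥(invSub G) R TK
    refine le_antisymm ?_ ?_
    · refine le_trans ?_ hcard.le
      refine Nat.card_le_card_of_injective (fun w : ↥(P : Subgroup ↥M) =>
        (⟨(k : G) * ((w : ↥M) : G) * (k : G)⁻¹, ?_, (mem_normalizer_iff.1 (hn k.2) _).1 (w : ↥M).2⟩ :
          ↥((T : Subgroup G) ⊓ M))) ?_
      · have : k * inclusion hMK w * k⁻¹ ∈ (TK : Subgroup ↥(invSub G)) := by
          rw [← hk, Sylow.coe_subgroup_smul]
          exact ⟨_, hR (mem_map_of_mem _ w.2), rfl⟩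
        exact mem_subgroupOf.1 this
      · intro v w e
        exact Subtype.ext (Subtype.ext (mul_left_cancel (mul_right_cancel (congrArg Subtype.val e :
          (k : G) * ((v : ↥M) : G) * (k : G)⁻¹ = (k : G) * ((w : ↥M) : G) * (k : G)⁻¹))))
    · have h := card_le_of_le hP
      rwa [Nat.card_zpowers, Subgroup.orderOf_mk, hxo] at h
  have hPx : (P : Subgroup ↥M) = zpowers (⟨x, hxM⟩ : ↥M) := (eq_of_le_of_card_ge hP (by
    rw [hPcard, Nat.card_zpowers, Subgroup.orderOf_mk, hxo])).symm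
  have hNC : normalizer ((P : Subgroup ↥M) : Set ↥M) ≤ centralizer ((P : Subgroup ↥M) : Set ↥M) := by
    intro w hw
    refine mem_centralizer_iff.2 fun z hz => ?_
    have hz' := (mem_normalizer_iff.1 hw z).1 hz
    have hPmem : ∀ v ∈ (P : Subgroup ↥M), v = 1 ∨ v = ⟨x, hxM⟩ := by
      intro v hv
      rw [hPx] at hv
      obtain ⟨i, rfl⟩ := mem_zpowers_iff.1 hv
      rw [← zpow_mod_orderOf, Subgroup.orderOf_mk, hxo]
      rcases Int.emod_two_eq_zero_or_one i with e | e <;> simp [e]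
    rcases hPmem z hz with e | e
    · rw [e, one_mul, mul_one]
    · rcases hPmem _ hz' with e' | e'
      · rw [mul_inv_eq_one, mul_eq_left] at e'
        rw [e', one_mul, mul_one]
      · rw [← e, mul_inv_eq_iff_eq_mul] at e'
        exact e'.symm
  set O := (MonoidHom.transferSylow P hNC).ker with hO
  have hOodd : Odd (Nat.card ↥O) := Nat.not_even_iff_odd.1 fun he =>
    MonoidHom.not_dvd_card_ker_transferSylow P hNC he.two_dvd
  have hOmem : ∀ w : ↥M, Odd (orderOf w) → w ∈ O := fun w hw => by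
    rw [hO, MonoidHom.mem_ker, ← orderOf_eq_one_iff]
    exact Nat.eq_one_of_dvd_coprimes (Nat.coprime_two_right.2 hw) (orderOf_map_dvd _ w)
      ((_root_.orderOf_dvd_natCard _).trans (dvd_of_eq hPcard))
  have hO1 : O = ⊥ := by
    by_contra hne
    obtain ⟨y, hyO, -, hyo⟩ := c.exists_inv (M := O.map M.subtype) ((map_subtype_le O).trans hMK) (fun k hk => by
      refine mem_normalizer_fintype fun v hv => ?_
      obtain ⟨w, hw, rfl⟩ := hv
      refine ⟨⟨k * (w : G) * k⁻¹, (mem_normalizer_iff.1 (hn hk) _).1 w.2⟩, hOmem _ ?_, rfl⟩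
      rw [Subgroup.orderOf_mk, show k * (w : G) * k⁻¹ = (MulAut.conj k) w from rfl, MulEquiv.orderOf_eq,
        orderOf_coe]
      exact hOodd.of_dvd_nat (O.orderOf_dvd_natCard hw)) (fun e => hne ((map_eq_bot_iff_of_injective O
        M.subtype_injective).1 e))
    have h1 := (O.map M.subtype).orderOf_dvd_natCard hyO
    rw [hyo, card_map_of_injective M.subtype_injective] at h1
    exact hOodd.not_two_dvd_nat h1
  have hM2 : M ≤ zpowers x := by
    intro y hy
    have h1 : (⟨y, hy⟩ : ↥M) ∈ (P : Subgroup ↥M) := by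
      have h2 := (MonoidHom.ker_transferSylow_isComplement' P hNC)
      rw [← hO, hO1, isComplement'_bot_left] at h2
      rw [h2]; exact mem_top _
    rw [hPx] at h1
    obtain ⟨i, hi⟩ := mem_zpowers_iff.1 h1
    exact mem_zpowers_iff.2 ⟨i, by simpa using congrArg Subtype.val hi⟩
  have hcen : ∀ k ∈ invSub G, Commute k x := fun k hk => by
    obtain ⟨i, hi⟩ := mem_zpowers_iff.1 (hM2 ((mem_normalizer_iff.1 (hn hk) x).1 hxM))
    rw [← zpow_mod_orderOf, hxo, Nat.cast_ofNat] at hi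
    rcases Int.emod_two_eq_zero_or_one i with e | e <;> rw [e] at hi
    · exfalso
      rw [zpow_zero, eq_comm, mul_inv_eq_one, mul_eq_left] at hi
      rw [hi, orderOf_one] at hxo; omega
    · rw [zpow_one, eq_comm, mul_inv_eq_iff_eq_mul] at hi
      exact hi
  obtain ⟨g, hg⟩ := c.conj_T hxo
  refine hc fun k hk => ?_
  have hcg := (hcen (g * k * g⁻¹) ((invSub_normal (G := G)).conj_mem k hk g)).map (MulAut.conj g⁻¹).toMonoidHom
  rw [← hg] at hcg
  simpa [mul_assoc] using hcg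

/-- The subgroup generated by the involutions is the Sylow subgroup or simple. -/
theorem Cell.dichotomy : invSub G = T ∨ (IsSimpleGroup ↥(invSub G) ∧ ¬ IsMulCommutative ↥(invSub G)) := by
  classical
  haveI : Fact (Nat.Prime 2) := ⟨Nat.prime_two⟩
  set K := invSub G with hK
  by_cases hc : ∀ x ∈ K, Commute x t
  · left
    have hall : ∀ x ∈ K, ∀ y : G, orderOf y = 2 → Commute x y := fun x hx y hy => by
      obtain ⟨g, rfl⟩ := c.conj_T hy
      have h := (hc (g⁻¹ * x * g) (by simpa using (invSub_normal (G := G)).conj_mem x hx g⁻¹)).map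
        (MulAut.conj g).toMonoidHom
      simpa [mul_assoc] using h
    have hsq : ∀ x ∈ K, x * x = 1 := fun x hx => by
      induction hx using Subgroup.closure_induction with
      | mem y hy => rw [← pow_two, ← show orderOf y = 2 from hy, pow_orderOf_eq_one]
      | one => exact one_mul 1
      | mul y z hy hz ihy ihz =>
        have hyz : Commute z y := by
          clear ihy ihz
          induction hy using Subgroup.closure_induction with
          | mem w hw => exact hall z hz w hw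
          | one => exact Commute.one_right z
          | mul w w' _ _ i i' => exact i.mul_right i'
          | inv w _ i => exact i.inv_right
        rw [hyz.mul_mul_mul_comm, ihy, ihz, one_mul]
      | inv y _ ih => rw [← _root_.mul_inv_rev, ih, inv_one]
    exact T.is_maximal' (fun ⟨x, hx⟩ => ⟨1, Subtype.ext (by simpa [pow_two] using hsq x hx)⟩) c.T_le
  right
  refine ⟨?_, fun h => hc fun x hx => congrArg Subtype.val (h.is_comm.comm ⟨x, hx⟩ ⟨t, c.T_le c.tT⟩)⟩
  haveI : Nontrivial ↥K := ⟨⟨t, c.T_le c.tT⟩, 1, fun e => by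
    have := c.ord
    rw [show t = 1 from congrArg Subtype.val e, orderOf_one] at this
    omega⟩
  refine ⟨fun M₀ hM₀ => ?_⟩
  by_cases h0 : M₀ = ⊥
  · exact Or.inl h0
  right
  set M₁ := M₀.map K.subtype with hM₁
  have hn₁ : K ≤ normalizer (M₁ : Set G) := fun k hk => mem_normalizer_fintype fun v hv => by
    obtain ⟨w, hw, rfl⟩ := hv
    exact ⟨⟨k, hk⟩ * w * ⟨k, hk⟩⁻¹, hM₀.conj_mem w hw _, rfl⟩
  obtain ⟨M, ⟨hM1, hn, hM⟩, hmin⟩ := WellFounded.has_min (r := ((· < ·) : Subgroup G → Subgroup G → Prop))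
    wellFounded_lt {M | M ≤ M₁ ∧ K ≤ normalizer (M : Set G) ∧ M ≠ ⊥}
    ⟨M₁, le_rfl, hn₁, fun e => h0 ((map_eq_bot_iff_of_injective M₀ K.subtype_injective).1 e)⟩
  have hMK : M ≤ K := hM1.trans (map_subtype_le M₀)
  -- `M` is normal in `G`
  have hnorm : ∀ g : G, M.map (MulAut.conj g).toMonoidHom = M := by
    intro g
    by_contra hne
    set M' := M.map (MulAut.conj g).toMonoidHom with hM'
    have hM'K : M' ≤ K := by
      rintro _ ⟨w, hw, rfl⟩
      exact (invSub_normal (G := G)).conj_mem w (hMK hw) g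
    have hn' : K ≤ normalizer (M' : Set G) := fun k hk => mem_normalizer_fintype fun v hv => by
      obtain ⟨w, hw, rfl⟩ := hv
      refine ⟨(g⁻¹ * k * g) * w * (g⁻¹ * k * g)⁻¹, (mem_normalizer_iff.1 (hn (by
        simpa using (invSub_normal (G := G)).conj_mem k hk g⁻¹)) w).1 hw, ?_⟩
      simp [mul_assoc]
    have hbot : M ⊓ M' = ⊥ := by
      by_contra hne'
      have hle : M ⊓ M' = M := (eq_or_lt_of_le (inf_le_left : M ⊓ M' ≤ M)).resolve_right fun hlt =>
        hmin _ ⟨inf_le_left.trans hM1, fun k hk => mem_normalizer_fintype fun v hv =>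
          ⟨(mem_normalizer_iff.1 (hn hk) v).1 hv.1, (mem_normalizer_iff.1 (hn' hk) v).1 hv.2⟩, hne'⟩ hlt
      exact hne (eq_of_le_of_card_ge (inf_eq_left.1 hle)
        (by rw [hM', card_map_of_injective (MulAut.conj g).injective])).symm
    have h1 := c.four_le hc hMK hn hM
    have h2 := c.four_le hc hM'K hn' (fun e => hM ((map_eq_bot_iff_of_injective M (MulAut.conj g).injective).1 e))
    have h3 : Nat.card (↥((T : Subgroup G) ⊓ M) × ↥((T : Subgroup G) ⊓ M')) ≤ Nat.card ↥(T : Subgroup G) := by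
      refine Nat.card_le_card_of_injective (fun p => (⟨p.1 * p.2, mul_mem p.1.2.1 p.2.2.1⟩ : ↥(T : Subgroup G))) ?_
      rintro ⟨⟨x, hx⟩, ⟨y, hy⟩⟩ ⟨⟨x', hx'⟩, ⟨y', hy'⟩⟩ e
      have e' : x * y = x' * y' := congrArg Subtype.val e
      have h5 : x'⁻¹ * x = 1 := by
        rw [← mem_bot, ← hbot]
        refine mem_inf.2 ⟨mul_mem (inv_mem hx'.2) hx.2, ?_⟩
        rw [show x'⁻¹ * x = y' * y⁻¹ by
          rw [eq_mul_inv_iff_mul_eq, mul_assoc, e', inv_mul_cancel_left]]
        exact mul_mem hy'.2 (inv_mem hy.2)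
      obtain rfl : x' = x := inv_mul_eq_one.1 h5
      obtain rfl : y = y' := mul_left_cancel e'
      rfl
    rw [Nat.card_prod, c.card] at h3
    nlinarith
  obtain ⟨x, hxM, -, hxo⟩ := c.exists_inv hMK hn hM
  have hKM : K ≤ M := (closure_le M).2 fun y hy => by
    obtain ⟨g₁, hg₁⟩ := c.conj_T hxo
    obtain ⟨g₂, hg₂⟩ := c.conj_T (show orderOf y = 2 from hy)
    have : (MulAut.conj (g₂ * g₁⁻¹)).toMonoidHom x ∈ M := hnorm (g₂ * g₁⁻¹) ▸ mem_map_of_mem _ hxM
    rw [← hg₁, MulEquiv.coe_toMonoidHom, MulAut.conj_apply] at this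
    show y ∈ M
    rw [← hg₂]
    convert this using 1
    group
  refine eq_top_iff.2 fun w _ => ?_
  obtain ⟨v, hv, e⟩ := hM1 (hKM w.2)
  exact (K.subtype_injective e) ▸ hv

/-- The order of a transitive subgroup of the normalizer. -/
theorem Cell.card_trans {H : Subgroup G} (hH : H ≤ normalizer ((T : Subgroup G) : Set G))
    (htr : ∀ x ∈ T, x ≠ 1 → ∃ h ∈ H, h * t * h⁻¹ = x) :
    Nat.card ↥H = 7 * Nat.card ↥(H ⊓ centralizer ({t} : Set G)) := by
  classical
  letI : MulAction H G := MulAction.compHom G ((ConjAct.toConjAct (G := G)).toMonoidHom.comp H.subtype)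
  have hsmul : ∀ (g : H) (x : G), g • x = (g : G) * x * (g : G)⁻¹ := fun g x => ConjAct.toConjAct_smul _ _
  have horb : MulAction.orbit H t = ((T : Subgroup G) : Set G) \ {1} := by
    ext x
    constructor
    · rintro ⟨g, rfl⟩
      show g • t ∈ _
      rw [hsmul]
      refine ⟨(mem_normalizer_iff.1 (hH g.2) t).1 c.tT, fun e => ?_⟩
      rw [Set.mem_singleton_iff, mul_inv_eq_one, mul_eq_left] at e
      have := c.ord
      rw [e, orderOf_one] at this
      omega
    · rintro ⟨hx, hx1⟩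
      obtain ⟨h, hh, e⟩ := htr x hx hx1
      exact ⟨⟨h, hh⟩, (hsmul _ _).trans e⟩
  have h7 : (MulAction.stabilizer H t).index = 7 := by
    rw [MulAction.index_stabilizer, horb, Set.ncard_sdiff_singleton_of_mem (one_mem _),
      ← Nat.card_coe_set_eq, show Nat.card ↥((T : Subgroup G) : Set G) = 8 from c.card]
  have hst : MulAction.stabilizer H t = (H ⊓ centralizer ({t} : Set G)).subgroupOf H := by
    ext g
    rw [MulAction.mem_stabilizer_iff, hsmul, mem_subgroupOf, mem_inf, mem_centralizer_singleton_iff,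
      mul_inv_eq_iff_eq_mul]
    exact ⟨fun e => ⟨g.2, e⟩, fun e => e.2⟩
  rw [← (MulAction.stabilizer H t).card_mul_index, h7, hst,
    Nat.card_congr (subgroupOfEquivOfLe (inf_le_left (a := H) (b := centralizer ({t} : Set G)))).toEquiv, mul_comm]

end Cfsg.Lib.SylowAb
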