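import Cfsg.Agent.SylowAbelian.Fixed
import Cfsg.Agent.EqualOrder.JR.Field
import Cfsg.Agent.EqualOrder.PSLCase
import Cfsg.Agent.AbCentMax.Main
import Cfsg.Agent.Classical.Misc.SmallPSL
import Cfsg.Agent.Components.BGNP.PSL

/-!
Janko–Ree type with all Sylow subgroups abelian: the field automorphism induced by an element outside the
linear fractional group.
-/

set_option autoImplicit false
set_option linter.unusedSectionVars false
set_option linter.style.haveILetI false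

namespace Cfsg.Lib.SylowAb

open Subgroup Cfsg.Lib.Known.AutPSL2

universe u

variable {G : Type u} [Group G] [Finite G]

/-- The configuration. -/
structure Cfg (t : G) (E E₀ : Subgroup G) (F : Type) [Field F] [Fintype F] : Prop where
  simple : IsSimpleGroup G
  nab : ¬ IsMulCommutative G
  ab : ∀ r : ℕ, r.Prime → ∀ P : Sylow r G, IsMulCommutative ↥(P : Subgroup G)
  five : 5 ≤ Fintype.card F
  modq : Fintype.card F % 8 = 3 ∨ Fintype.card F % 8 = 5
  hyp : AbCentMax.Hyp t E E₀ F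

variable {t : G} {E E₀ : Subgroup G} {F : Type} [Field F] [Fintype F]

/-- The linear fractional group in the group. -/
noncomputable def embP (f : ↥E₀ ≃* Matrix.ProjectiveSpecialLinearGroup (Fin 2) F) :
    Matrix.ProjectiveSpecialLinearGroup (Fin 2) F →* G :=
  E₀.subtype.comp f.symm.toMonoidHom

theorem embP_injective (f : ↥E₀ ≃* Matrix.ProjectiveSpecialLinearGroup (Fin 2) F) :
    Function.Injective (embP f) :=
  E₀.subtype_injective.comp f.symm.injective

theorem embP_mem (f : ↥E₀ ≃* Matrix.ProjectiveSpecialLinearGroup (Fin 2) F)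
    (z : Matrix.ProjectiveSpecialLinearGroup (Fin 2) F) : embP f z ∈ E₀ :=
  (f.symm z).2

theorem embP_self (f : ↥E₀ ≃* Matrix.ProjectiveSpecialLinearGroup (Fin 2) F) {x : G} (hx : x ∈ E₀) :
    embP f (f ⟨x, hx⟩) = x := by
  simp [embP]

/-- Commuting elements of prime power order in a Sylow subgroup. -/
theorem Cfg.comm_of_pgroup (c : Cfg t E E₀ F) {r : ℕ} (hr : r.Prime) {H : Subgroup G} (hH : IsPGroup r ↥H)
    {x y : G} (hx : x ∈ H) (hy : y ∈ H) : Commute x y := by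
  obtain ⟨P, hP⟩ := hH.exists_le_sylow
  exact congrArg Subtype.val ((c.ab r hr P).is_comm.comm ⟨x, hP hx⟩ ⟨y, hP hy⟩)

theorem Cfg.two_comm (c : Cfg t E E₀ F) : ∀ S : Sylow 2 G, IsMulCommutative ↥(S : Subgroup G) :=
  fun S => c.ab 2 Nat.prime_two S

theorem Cfg.card_E₀ (c : Cfg t E E₀ F) : 2 * Nat.card ↥E₀ = Fintype.card F * (Fintype.card F ^ 2 - 1) := by
  obtain ⟨f⟩ := c.hyp.iso
  have hc := Cfsg.Lib.Classical.SmallPSL.card_psl (F := F) rfl
  rw [Nat.gcd_eq_left (Nat.dvd_of_mod_eq_zero (by have := Nat.odd_iff.1 c.hyp.odd; have := c.five; omega))] at hc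
  rw [Nat.card_congr f.toEquiv]
  exact hc

theorem Cfg.card_eight (c : Cfg t E E₀ F) (S : Sylow 2 G) : Nat.card ↥(S : Subgroup G) = 8 := by
  haveI : Fact (Nat.Prime 2) := ⟨Nat.prime_two⟩
  obtain ⟨T, a, b, n, hS⟩ := AbCentMax.exists_sys c.hyp c.two_comm
  rw [← (AbCentMax.three_dvd c.hyp hS).2]
  exact Nat.card_congr (Sylow.equiv S T).toEquiv

theorem hyp_card_cent {G : Type u} [Group G] [Finite G] {t : G} {E E₀ : Subgroup G} {F : Type} [Field F]
    [Fintype F] (h : AbCentMax.Hyp t E E₀ F) :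
    Nat.card ↥(centralizer ({t} : Set G)) = 2 * Nat.card ↥E := by
  classical
  have hmem : ∀ (b : Bool) (e : ↥E), (cond b t 1) * (e : G) ∈ centralizer ({t} : Set G) := fun b e => by
    refine mem_centralizer_singleton_iff.2 ?_
    cases b
    · simpa using (h.comm _ e.2).eq.symm
    · exact ((Commute.refl t).mul_left (h.comm _ e.2).symm).eq
  rw [show 2 * Nat.card ↥E = Nat.card (Bool × ↥E) by rw [Nat.card_prod, Nat.card_eq_fintype_card (α := Bool)]; rfl]
  refine (Nat.card_eq_of_bijective (fun p : Bool × ↥E => (⟨_, hmem p.1 p.2⟩ : ↥(centralizer ({t} : Set G))))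
    ⟨?_, ?_⟩).symm
  · rintro ⟨a, x⟩ ⟨b, y⟩ e
    have e' : cond a t 1 * (x : G) = cond b t 1 * (y : G) := congrArg Subtype.val e
    rcases a <;> rcases b <;> simp only [cond_true, cond_false, one_mul] at e'
    · exact Prod.ext rfl (Subtype.ext e')
    · exfalso
      have hh : t = (x : G) * (y : G)⁻¹ := by rw [e']; group
      exact h.disj (hh ▸ mul_mem x.2 (inv_mem y.2))
    · exfalso
      have hh : t = (y : G) * (x : G)⁻¹ := by rw [← e']; group
      exact h.disj (hh ▸ mul_mem y.2 (inv_mem x.2))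
    · exact Prod.ext rfl (Subtype.ext (mul_left_cancel e'))
  · rintro ⟨x, hx⟩
    obtain ⟨e, he, r | r⟩ := h.split x (mem_centralizer_singleton_iff.1 hx)
    · exact ⟨(false, ⟨e, he⟩), Subtype.ext (by simp [r])⟩
    · exact ⟨(true, ⟨e, he⟩), Subtype.ext (by simp [r])⟩

theorem Cfg.card_cent (c : Cfg t E E₀ F) :
    Nat.card ↥(centralizer ({t} : Set G)) = 2 * Nat.card ↥E :=
  hyp_card_cent c.hyp

theorem Cfg.odd_relIndex (c : Cfg t E E₀ F) : Odd (E₀.relIndex E) := by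
  haveI : Fact (Nat.Prime 2) := ⟨Nat.prime_two⟩
  refine Nat.not_even_iff_odd.1 fun he => ?_
  have h4 : 4 ∣ Nat.card ↥E₀ := by
    obtain ⟨T, a, b, n, hS⟩ := AbCentMax.exists_sys c.hyp c.two_comm
    obtain ⟨q, hq⟩ : ∃ q, Fintype.card F = q := ⟨_, rfl⟩
    have h1 := c.card_E₀
    have h2 := Nat.odd_iff.1 c.hyp.odd
    rw [hq] at h1 h2
    obtain ⟨s, rfl⟩ : ∃ s, q = 2 * s + 1 := ⟨q / 2, by omega⟩
    obtain ⟨j, hj⟩ := Nat.even_mul_succ_self s
    rw [show (2 * s + 1) ^ 2 = 4 * (s * (s + 1)) + 1 by ring, Nat.add_sub_cancel, hj,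
      show (2 * s + 1) * (4 * (j + j)) = 2 * (4 * ((2 * s + 1) * j)) by ring] at h1
    exact ⟨(2 * s + 1) * j, Nat.eq_of_mul_eq_mul_left two_pos h1⟩
  have h16 : 2 ^ 4 ∣ Nat.card G := by
    refine Dvd.dvd.trans ?_ (card_subgroup_dvd_card (centralizer ({t} : Set G)))
    rw [c.card_cent]
    have hc : Nat.card ↥E = Nat.card ↥E₀ * E₀.relIndex E := by
      rw [← Nat.card_congr (subgroupOfEquivOfLe c.hyp.le).toEquiv]
      exact (card_mul_index _).symm
    rw [hc, show (2 : ℕ) ^ 4 = 2 * (4 * 2) by norm_num]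
    exact Nat.mul_dvd_mul (dvd_refl 2) (Nat.mul_dvd_mul h4 he.two_dvd)
  obtain ⟨S⟩ : Nonempty (Sylow 2 G) := inferInstance
  have := S.pow_dvd_card_of_pow_dvd_card h16
  rw [c.card_eight S] at this
  norm_num at this

/-- The action on the linear fractional group, and the projection onto the field part. -/
theorem Cfg.exists_act (c : Cfg t E E₀ F) (f : ↥E₀ ≃* Matrix.ProjectiveSpecialLinearGroup (Fin 2) F) :
    ∃ ρ : ↥E →* MulAut (Matrix.ProjectiveSpecialLinearGroup (Fin 2) F), Function.Injective ρ ∧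
      ∀ (e : ↥E) z, embP f (ρ e z) = (e : G) * embP f z * (e : G)⁻¹ := by
  haveI : (E₀.subgroupOf E).Normal := ⟨fun x hx e => c.hyp.norm e e.2 x hx⟩
  let θ : ↥(E₀.subgroupOf E) ≃* Matrix.ProjectiveSpecialLinearGroup (Fin 2) F :=
    (subgroupOfEquivOfLe c.hyp.le).trans f
  let ρ : ↥E →* MulAut (Matrix.ProjectiveSpecialLinearGroup (Fin 2) F) :=
    (MulAut.congr θ).toMonoidHom.comp MulAut.conjNormal
  have hρ : ∀ (e : ↥E) z, embP f (ρ e z) = (e : G) * embP f z * (e : G)⁻¹ := fun e z => by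
    simp [ρ, θ, embP, MulAut.congr, MulAut.conjNormal_apply]
  refine ⟨ρ, (injective_iff_map_eq_one ρ).2 fun e he => Subtype.ext (c.hyp.faith e e.2 fun x hx => ?_), hρ⟩
  have h := hρ e (f ⟨x, hx⟩)
  rw [he, MulAut.one_apply, embP_self] at h
  exact mul_inv_eq_iff_eq_mul.1 h.symm

/-- `E/E₀` is cyclic. -/
theorem Cfg.exists_proj (c : Cfg t E E₀ F) {p d : ℕ} [Fact p.Prime] [CharP F p] [Algebra (ZMod p) F]
    (hd : 1 ≤ d) (hF : Fintype.card F = p ^ d) :
    ∃ χ : ↥E →* Multiplicative (ZMod d), ∀ e : ↥E, χ e = 1 ↔ (e : G) ∈ E₀ := by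
  classical
  obtain ⟨f⟩ := c.hyp.iso
  obtain ⟨ρ, hinj, hρ⟩ := c.exists_act f
  obtain ⟨φ, -, -, hker⟩ := exists_hom_out (F := F) p hd hF
  have hk2 : Nat.card φ.ker = 2 := by
    rw [hker, Nat.gcd_eq_left (Nat.dvd_of_mod_eq_zero (by
      have := Nat.odd_iff.1 c.hyp.odd; rw [hF] at this; omega))]
  set mk := QuotientGroup.mk' (Cfsg.Inn (Matrix.ProjectiveSpecialLinearGroup (Fin 2) F))
  have hinner : ∀ e : ↥E, (e : G) ∈ E₀ → mk (ρ e) = 1 := fun e he => by
    refine (QuotientGroup.eq_one_iff _).2 ⟨f ⟨e, he⟩, MulEquiv.ext fun w => embP_injective f ?_⟩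
    rw [hρ, MulAut.conj_apply, map_mul, map_mul, map_inv, embP_self]
  refine ⟨φ.comp (mk.comp ρ), fun e => ⟨fun he => ?_, fun he => ?_⟩⟩
  · have hk : mk (ρ e) ∈ φ.ker := he
    have h2 : mk (ρ e) ^ 2 = 1 := by
      have h := congrArg Subtype.val (pow_card_eq_one' (x := (⟨_, hk⟩ : φ.ker)))
      rwa [hk2] at h
    rw [← map_pow, ← map_pow] at h2
    obtain ⟨z, hz⟩ := (QuotientGroup.eq_one_iff _).1 h2
    have hsq : e ^ 2 = ⟨embP f z, c.hyp.le (embP_mem f z)⟩ := hinj (MulEquiv.ext fun w => embP_injective f (by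
      rw [← hz, MulAut.conj_apply, map_mul, map_mul, map_inv, hρ]))
    haveI : (E₀.subgroupOf E).Normal := ⟨fun x hx w => c.hyp.norm w w.2 x hx⟩
    have h1 : (QuotientGroup.mk' (E₀.subgroupOf E) e) ^ 2 = 1 := by
      rw [← map_pow, hsq]
      exact (QuotientGroup.eq_one_iff _).2 (mem_subgroupOf.2 (embP_mem f z))
    have h3 := orderOf_dvd_of_pow_eq_one h1
    have h4 := Nat.eq_one_of_dvd_coprimes (Nat.coprime_two_left.2 c.odd_relIndex) h3
      (_root_.orderOf_dvd_natCard (QuotientGroup.mk' (E₀.subgroupOf E) e))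
    exact mem_subgroupOf.1 ((QuotientGroup.eq_one_iff _).1 (orderOf_eq_one_iff.1 h4))
  · show φ (mk (ρ e)) = 1
    rw [hinner e he, map_one]

/-- An element `s` inducing the field automorphism `σ` of odd prime order `r`. -/
structure Data (t : G) (E E₀ : Subgroup G) (F : Type) [Field F] [Fintype F] (p : ℕ) [Fact p.Prime] [CharP F p]
    [Algebra (ZMod p) F] (f : ↥E₀ ≃* Matrix.ProjectiveSpecialLinearGroup (Fin 2) F) (σ : F ≃ₐ[ZMod p] F)
    (s : G) (r d : ℕ) : Prop where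
  cfg : Cfg t E E₀ F
  d_pos : 1 ≤ d
  hF : Fintype.card F = p ^ d
  prime : r.Prime
  r_odd : r ≠ 2
  σ_ord : orderOf σ = r
  sE : s ∈ E
  s_ord : orderOf s = r
  act : ∀ z, s * embP f z * s⁻¹ = embP f (fieldAut p σ z)

/-- Outside the case `E = E₀` there is such an element. -/
theorem Cfg.exists_data (c : Cfg t E E₀ F) {p d : ℕ} [Fact p.Prime] [CharP F p] [Algebra (ZMod p) F]
    (hd : 1 ≤ d) (hF : Fintype.card F = p ^ d) (f : ↥E₀ ≃* Matrix.ProjectiveSpecialLinearGroup (Fin 2) F)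
    (hm : E₀.relIndex E ≠ 1) : ∃ (σ : F ≃ₐ[ZMod p] F) (s : G) (r : ℕ), Data t E E₀ F p f σ s r d := by
  classical
  obtain ⟨r, hr, hrm⟩ := Nat.exists_prime_and_dvd hm
  have hmo := c.odd_relIndex
  obtain ⟨ρ, hinj, hρ⟩ := c.exists_act f
  have hI : Cfsg.Inn (Matrix.ProjectiveSpecialLinearGroup (Fin 2) F) ≤ ρ.range := by
    rintro _ ⟨z, rfl⟩
    refine ⟨⟨_, c.hyp.le (embP_mem f z)⟩, MulEquiv.ext fun w => embP_injective f ?_⟩
    rw [hρ, MulAut.conj_apply, map_mul, map_mul, map_inv]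
  have hInn : Nat.card (Cfsg.Inn (Matrix.ProjectiveSpecialLinearGroup (Fin 2) F)) = Nat.card ↥E₀ := by
    rw [Nat.card_congr f.toEquiv]
    refine (Nat.card_congr (MonoidHom.ofInjective ?_).toEquiv).symm
    refine (injective_iff_map_eq_one _).2 fun z hz => ?_
    rw [← mem_bot, ← Cfsg.Lib.BGN.P.psl_center_eq_bot (F := F), mem_center_iff]
    intro w
    have h := DFunLike.congr_fun hz w
    rw [MulAut.conj_apply, MulAut.one_apply, mul_inv_eq_iff_eq_mul] at h
    exact h.symm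
  have hcard : Nat.card ρ.range =
      Nat.card (Cfsg.Inn (Matrix.ProjectiveSpecialLinearGroup (Fin 2) F)) * E₀.relIndex E := by
    rw [← Nat.card_congr (MonoidHom.ofInjective hinj).toEquiv, hInn,
      ← Nat.card_congr (subgroupOfEquivOfLe c.hyp.le).toEquiv]
    exact (card_mul_index _).symm
  obtain ⟨-, σ, hσ, s, hs⟩ := EqualOrder.exists_field_mem hd hF (hF ▸ c.hyp.odd) ρ.range hI hcard hmo hr hrm
  have hr2 : r ≠ 2 := fun e => Nat.not_even_iff_odd.2 hmo (even_iff_two_dvd.2 (e ▸ hrm))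
  haveI := Fact.mk hr
  have hσ1 : σ ≠ 1 := fun e => hr.one_lt.ne (by rw [← hσ, e, orderOf_one])
  refine ⟨σ, s, r, c, hd, hF, hr, hr2, hσ, s.2, ?_, fun z => by rw [← hρ, hs]⟩
  rw [orderOf_coe, ← orderOf_injective ρ hinj, hs]
  refine orderOf_eq_prime (by rw [← map_pow, ← hσ, pow_orderOf_eq_one, map_one]) fun e => hσ1 ?_
  refine AlgEquiv.ext fun x => uS_injective_π ?_
  rw [← fieldAut_u p σ x, e]
  rfl

variable {p : ℕ} [Fact p.Prime] [CharP F p] [Algebra (ZMod p) F]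
  {f : ↥E₀ ≃* Matrix.ProjectiveSpecialLinearGroup (Fin 2) F} {σ : F ≃ₐ[ZMod p] F} {s : G} {r d : ℕ}
  (D : Data t E E₀ F p f σ s r d)
include D

theorem Data.s_comm_t : Commute s t := (D.cfg.hyp.comm s D.sE).symm

theorem Data.σ_ne : σ ≠ 1 := fun e => D.prime.one_lt.ne (by rw [← D.σ_ord, e, orderOf_one])

theorem Data.odd_σ : Odd (orderOf σ) := D.σ_ord ▸ D.prime.odd_of_ne_two D.r_odd

theorem Data.r_ne_p : r ≠ p := by
  intro e
  subst e
  set U : Subgroup G := ((u (F := F)).range).map (embP f) with hU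
  have hU2 : IsPGroup r ↥U := by
    refine (IsPGroup.of_surjective ?_ (u (F := F)).rangeRestrict (u (F := F)).rangeRestrict_surjective).map _
    exact IsPGroup.of_card (n := d) (by rw [Nat.card_congr Multiplicative.toAdd, Nat.card_eq_fintype_card, D.hF])
  have hn : zpowers s ≤ normalizer (U : Set G) := zpowers_le.2 (mem_normalizer_fintype fun v hv => by
    obtain ⟨_, ⟨x, rfl⟩, rfl⟩ := hv
    refine ⟨_, ⟨Multiplicative.ofAdd (σ x.toAdd), rfl⟩, ?_⟩
    rw [D.act]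
    show embP f (π (uS (σ x.toAdd))) = embP f (fieldAut r σ (π (uS x.toAdd)))
    rw [fieldAut_u])
  have hp2 : IsPGroup r ↥(zpowers s ⊔ U) := (IsPGroup.of_card (G := zpowers s) (n := 1)
    (by rw [Nat.card_zpowers, D.s_ord, pow_one])).to_sup_of_normal_right' hU2 hn
  obtain ⟨x, hx⟩ : ∃ x : F, σ x ≠ x := by
    by_contra! h
    exact D.σ_ne (AlgEquiv.ext h)
  have hc := D.cfg.comm_of_pgroup D.prime hp2 (x := s) (y := embP f (π (uS x))) (mem_sup_left (mem_zpowers s))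
    (mem_sup_right ⟨_, ⟨Multiplicative.ofAdd x, rfl⟩, rfl⟩)
  have h := D.act (π (uS x))
  rw [hc.eq, mul_inv_cancel_right, fieldAut_u] at h
  exact hx (uS_injective_π (embP_injective f h)).symm

/-- The fixed points of the field automorphism in `E₀`. -/
noncomputable def fixG (f : ↥E₀ ≃* Matrix.ProjectiveSpecialLinearGroup (Fin 2) F) (σ : F ≃ₐ[ZMod p] F) :
    Subgroup G :=
  ((embP f).comp (incl p σ)).range

theorem Data.mem_fixG {x : G} : x ∈ fixG f σ ↔ x ∈ E₀ ∧ Commute x s := by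
  constructor
  · rintro ⟨z, rfl⟩
    refine ⟨embP_mem f _, ?_⟩
    have hz : fieldAut p σ (incl p σ z) = incl p σ z := (mem_range_incl p D.odd_σ).1 ⟨z, rfl⟩
    have := D.act (incl p σ z)
    rw [hz, mul_inv_eq_iff_eq_mul] at this
    exact this.symm
  · rintro ⟨hx, hc⟩
    have h := D.act (f ⟨x, hx⟩)
    rw [embP_self, hc.symm.eq, mul_inv_cancel_right] at h
    obtain ⟨z, hz⟩ := (mem_range_incl p D.odd_σ).2 (embP_injective f ((embP_self f hx).trans h)).symm
    exact ⟨z, by rw [MonoidHom.comp_apply, hz, embP_self]⟩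

theorem Data.fixG_le : fixG f σ ≤ E₀ := fun _ hx => (D.mem_fixG.1 hx).1

theorem Data.card_fix_eq : Fintype.card F = Nat.card (fixF p σ) ^ r := D.σ_ord ▸ card_fixF p σ

theorem Data.fix_mod : Nat.card (fixF p σ) % 8 = Fintype.card F % 8 := by
  obtain ⟨j, hj⟩ := D.prime.odd_of_ne_two D.r_odd
  have h := D.card_fix_eq
  have hodd : Nat.card (fixF p σ) % 2 = 1 := by
    have h2 := Nat.odd_iff.1 D.cfg.hyp.odd
    rw [h, Nat.pow_mod] at h2
    rcases Nat.mod_two_eq_zero_or_one (Nat.card (fixF p σ)) with e | e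
    · rw [e, zero_pow D.prime.ne_zero] at h2; simp at h2
    · exact e
  have hsq : Nat.card (fixF p σ) ^ 2 % 8 = 1 := by
    rw [Nat.pow_mod]
    have : Nat.card (fixF p σ) % 8 < 8 := Nat.mod_lt _ (by norm_num)
    have h8 : Nat.card (fixF p σ) % 8 % 2 = 1 := by omega
    interval_cases Nat.card (fixF p σ) % 8 <;> norm_num at h8 <;> rfl
  rw [h, hj, pow_succ, pow_mul, Nat.mul_mod, Nat.pow_mod, hsq, one_pow]
  omega

theorem Data.three_le_fix : 3 ≤ Nat.card (fixF p σ) := by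
  have := D.fix_mod
  have := D.cfg.modq
  omega

theorem Data.card_fixG : 2 * Nat.card ↥(fixG f σ) = Nat.card (fixF p σ) * (Nat.card (fixF p σ) ^ 2 - 1) := by
  letI := Fintype.ofFinite (fixF p σ)
  have hc := Cfsg.Lib.Classical.SmallPSL.card_psl (F := fixF p σ) rfl
  have := D.three_le_fix
  have := D.fix_mod
  have := D.cfg.modq
  rw [Nat.gcd_eq_left (Nat.dvd_of_mod_eq_zero (by rw [← Nat.card_eq_fintype_card]; omega))] at hc
  rw [Nat.card_eq_fintype_card (α := fixF p σ), ← hc]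
  congr 1
  exact (Nat.card_congr (MonoidHom.ofInjective (f := (embP f).comp (incl p σ))
    ((embP_injective f).comp (incl_injective p σ))).toEquiv).symm

/-- `r` does not divide the order of `E₀`. -/
theorem Data.not_dvd : ¬ r ∣ Nat.card ↥E₀ := by
  classical
  intro hrE
  haveI := Fact.mk D.prime
  have c := D.cfg
  obtain ⟨q₀, hq₀⟩ : ∃ q, Nat.card (fixF p σ) = q := ⟨_, rfl⟩
  have hq := D.card_fix_eq
  have hq3 := D.three_le_fix
  have hfix := D.card_fixG
  rw [hq₀] at hq hq3 hfix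
  -- the Sylow subgroup of `E₀` is centralised by `s`
  obtain ⟨W⟩ : Nonempty (Sylow r ↥E₀) := inferInstance
  set W' : Subgroup ↥E := ((W : Subgroup ↥E₀).map (inclusion c.hyp.le)) with hW'
  obtain ⟨R, hR⟩ := (IsPGroup.of_card (G := zpowers (⟨s, D.sE⟩ : ↥E)) (p := r) (n := 1)
    (by rw [Nat.card_zpowers, Subgroup.orderOf_mk, D.s_ord, pow_one])).exists_le_sylow
  obtain ⟨R', hR'⟩ := (show IsPGroup r ↥W' from W.2.map _).exists_le_sylow
  obtain ⟨k, hk⟩ := MulAction.exists_smul_eq ↥E R' R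
  have hin : ∀ w ∈ (W : Subgroup ↥E₀), (k : G) * (w : G) * (k : G)⁻¹ ∈ fixG f σ := fun w hw => by
    have hm : k * inclusion c.hyp.le w * k⁻¹ ∈ (R : Subgroup ↥E) := by
      rw [← hk, Sylow.coe_subgroup_smul]
      exact ⟨_, hR' (mem_map_of_mem _ hw), rfl⟩
    refine D.mem_fixG.2 ⟨c.hyp.norm k k.2 w w.2, ?_⟩
    exact c.comm_of_pgroup D.prime (R.2.map E.subtype) ⟨_, hm, rfl⟩ ⟨_, hR (mem_zpowers _), rfl⟩
  set C : Subgroup G := ((W : Subgroup ↥E₀).map E₀.subtype).map (MulAut.conj (k : G)).toMonoidHom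
  have hC : C ≤ fixG f σ := by
    rintro _ ⟨_, ⟨w, hw, rfl⟩, rfl⟩
    exact hin w hw
  have hWc : Nat.card ↥(W : Subgroup ↥E₀) ∣ Nat.card ↥(fixG f σ) := by
    refine (dvd_of_eq ?_).trans (card_dvd_of_le hC)
    rw [card_map_of_injective (f := (MulAut.conj (k : G)).toMonoidHom) (MulAut.conj (k : G)).injective,
      card_map_of_injective E₀.subtype_injective]
  -- the `r`-part grows
  have hrp : ¬ r ∣ q₀ := fun h => by
    have hh : r ∣ Fintype.card F := hq ▸ dvd_pow h D.prime.ne_zero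
    rw [D.hF] at hh
    exact D.r_ne_p ((Nat.prime_dvd_prime_iff_eq D.prime Fact.out).1 (D.prime.dvd_of_dvd_pow hh))
  have hr2 : r.Coprime 2 := (Nat.coprime_primes D.prime Nat.prime_two).2 D.r_odd
  have hx0 : q₀ ^ 2 - 1 ≠ 0 := by
    have := Nat.pow_le_pow_left hq3 2
    omega
  have hqq : Fintype.card F ^ 2 = (q₀ ^ 2) ^ r := by rw [hq, ← pow_mul, ← pow_mul, mul_comm]
  have hone : 1 ≤ q₀ ^ 2 := Nat.one_le_pow _ _ (by omega)
  have honeq : 1 ≤ (q₀ ^ 2) ^ r := Nat.one_le_pow _ _ (by omega)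
  have hdx : r ∣ q₀ ^ 2 - 1 := by
    have h2 : r ∣ Fintype.card F * (Fintype.card F ^ 2 - 1) := c.card_E₀ ▸ dvd_mul_of_dvd_right hrE 2
    have h3 : r ∣ Fintype.card F ^ 2 - 1 := ((Nat.Prime.dvd_mul D.prime).1 h2).resolve_left fun h =>
      hrp (D.prime.dvd_of_dvd_pow (hq ▸ h))
    rw [hqq, ← ZMod.natCast_eq_zero_iff, Nat.cast_sub honeq, Nat.cast_pow, ZMod.pow_card] at h3
    rw [← ZMod.natCast_eq_zero_iff, Nat.cast_sub hone]
    exact h3
  set K := (q₀ ^ 2 - 1).factorization r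
  have hK : r ^ K ∣ q₀ ^ 2 - 1 := Nat.ordProj_dvd _ _
  have hbig : r ^ (K + 1) ∣ Fintype.card F ^ 2 - 1 := by
    rw [hqq, ← Int.natCast_dvd_natCast, Nat.cast_sub honeq, Nat.cast_pow, Nat.cast_pow, Nat.cast_one,
      ← geom_sum_mul, pow_succ, mul_comm ((r : ℤ) ^ K)]
    refine mul_dvd_mul ?_ ?_
    · rw [← ZMod.intCast_zmod_eq_zero_iff_dvd]
      push_cast
      have h1 : ((q₀ : ZMod r) ^ 2) = 1 := by
        have h := (ZMod.natCast_eq_zero_iff _ _).2 hdx
        rw [Nat.cast_sub hone, Nat.cast_pow, Nat.cast_one, sub_eq_zero] at h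
        exact h
      simp [h1]
    · have := Int.natCast_dvd_natCast.2 hK
      rw [Nat.cast_sub hone] at this
      push_cast at this
      exact this
  have hE : r ^ (K + 1) ∣ Nat.card ↥E₀ := by
    refine (hr2.pow_left _).dvd_of_dvd_mul_left ?_
    rw [c.card_E₀]
    exact dvd_mul_of_dvd_right hbig _
  have h5 := (W.pow_dvd_card_of_pow_dvd_card hE).trans hWc
  have h6 : r ^ (K + 1) ∣ q₀ * (q₀ ^ 2 - 1) := hfix ▸ dvd_mul_of_dvd_right h5 2
  have h7 : r ^ (K + 1) ∣ q₀ ^ 2 - 1 :=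
    ((D.prime.coprime_iff_not_dvd.2 hrp).pow_left _).dvd_of_dvd_mul_left h6
  exact Nat.not_succ_le_self K ((Nat.Prime.pow_dvd_iff_le_factorization D.prime hx0).1 h7)

theorem Data.five_le : 5 ≤ r := by
  have h2 := D.prime.two_le
  have h3 : r ≠ 3 := fun e => by
    refine D.not_dvd (e ▸ ?_)
    refine (Nat.Coprime.dvd_mul_left (by norm_num : Nat.Coprime 3 2)).1 ?_
    rw [D.cfg.card_E₀]
    obtain ⟨k, hk⟩ : ∃ k, Fintype.card F = 3 * k ∨ Fintype.card F = 3 * k + 1 ∨ Fintype.card F = 3 * k + 2 :=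
      ⟨Fintype.card F / 3, by omega⟩
    rcases hk with hk | hk | hk
    · exact dvd_mul_of_dvd_left ⟨k, hk⟩ _
    · refine dvd_mul_of_dvd_right ⟨3 * k * k + 2 * k, ?_⟩ _
      rw [hk, show (3 * k + 1) ^ 2 = 3 * (3 * k * k + 2 * k) + 1 by ring, Nat.add_sub_cancel]
    · refine dvd_mul_of_dvd_right ⟨3 * k * k + 4 * k + 1, ?_⟩ _
      rw [hk, show (3 * k + 2) ^ 2 = 3 * (3 * k * k + 4 * k + 1) + 1 by ring, Nat.add_sub_cancel]
  have h4 : r ≠ 4 := fun e => absurd D.prime (e ▸ by norm_num)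
  have := D.r_odd
  omega

/-- An element of `E` centralising the fixed points is a power of `s`. -/
theorem Data.mem_zpowers_of_cent {e : G} (he : e ∈ E) (hc : ∀ x ∈ fixG f σ, Commute e x) : e ∈ zpowers s := by
  obtain ⟨ρ, hinj, hρ⟩ := D.cfg.exists_act f
  obtain ⟨τ, hτ, hα⟩ := eq_field_of_fix p D.d_pos D.hF (α := ρ ⟨e, he⟩) (σ := σ) (fun z hz => by
    obtain ⟨w, rfl⟩ := (mem_range_incl p D.odd_σ).2 hz
    refine embP_injective f ?_
    rw [hρ]
    exact mul_inv_eq_iff_eq_mul.2 (hc _ ⟨w, rfl⟩).eq)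
  obtain ⟨i, rfl⟩ := mem_zpowers_iff.1 hτ
  refine mem_zpowers_iff.2 ⟨i, ?_⟩
  have hs : ρ ⟨s, D.sE⟩ = fieldAut p σ := MulEquiv.ext fun z => embP_injective f (by rw [hρ, D.act])
  have : (⟨s, D.sE⟩ : ↥E) ^ i = ⟨e, he⟩ := hinj (by rw [map_zpow, hs, hα, map_zpow])
  simpa using congrArg Subtype.val this

end Cfsg.Lib.SylowAb
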