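import Cfsg.Agent.SylowAbelian.Quot
import Cfsg.Agent.Ree.Transfer.Main

/-!
The quotient of the centralizer of `s` when the fixed field has 3 or 5 elements, and the transfer contradiction.
-/

set_option autoImplicit false
set_option linter.unusedSectionVars false
set_option linter.style.haveILetI false

namespace Cfsg.Lib.SylowAb

open Subgroup Cfsg.Lib.Known.AutPSL2
open scoped Pointwise

universe u

variable {G : Type u} [Group G] [Finite G] {t : G} {E E₀ : Subgroup G} {F : Type} [Field F] [Fintype F]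
  {p : ℕ} [Fact p.Prime] [CharP F p] [Algebra (ZMod p) F]
  {f : ↥E₀ ≃* Matrix.ProjectiveSpecialLinearGroup (Fin 2) F} {σ : F ≃ₐ[ZMod p] F} {s : G} {r d : ℕ}
  (D : Data t E E₀ F p f σ s r d)
include D

theorem Data.small_q (h : Nat.card (fixF p σ) = 3 ∨ Nat.card (fixF p σ) = 5) :
    Nat.card (fixF p σ) = p ∧ d = r := by
  have hp : p.Prime := Fact.out
  have he := D.card_fix_eq
  rw [D.hF] at he
  have hq : (Nat.card (fixF p σ)).Prime := by rcases h with h | h <;> rw [h] <;> norm_num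
  have hpq : p ∣ Nat.card (fixF p σ) :=
    hp.dvd_of_dvd_pow (he ▸ dvd_pow_self p (by have := D.d_pos; omega))
  have hqp := ((Nat.prime_dvd_prime_iff_eq hp hq).1 hpq).symm
  refine ⟨hqp, ?_⟩
  rw [hqp] at he
  exact Nat.pow_right_injective hp.two_le he

/-- When `d = r`, `E = E₀⟨s⟩`. -/
theorem Data.E_eq (hdr : d = r) {e : G} (he : e ∈ E) : ∃ z ∈ E₀, ∃ k : ℤ, e = z * s ^ k := by
  obtain ⟨χ, hχ⟩ := D.cfg.exists_proj D.d_pos D.hF
  haveI : NeZero d := ⟨by have := D.d_pos; omega⟩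
  have hcard : Nat.card (Multiplicative (ZMod d)) = r := by
    rw [Nat.card_congr Multiplicative.toAdd, Nat.card_zmod, hdr]
  haveI := Fact.mk D.prime
  have hne : χ ⟨s, D.sE⟩ ≠ 1 := fun h => by
    have h1 : s = 1 := D.eq_one_of_mem ((hχ _).1 h) D.s_pow
    have := D.s_ord
    rw [h1, orderOf_one] at this
    exact D.prime.one_lt.ne this
  obtain ⟨k, hk⟩ := mem_zpowers_iff.1 (mem_zpowers_of_prime_card (g := χ ⟨s, D.sE⟩) (g' := χ ⟨e, he⟩) hcard hne)
  refine ⟨e * (s ^ k)⁻¹, ?_, k, by rw [inv_mul_cancel_right]⟩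
  have hmem := (hχ (⟨e, he⟩ * (⟨s, D.sE⟩ ^ k)⁻¹)).1 (by rw [map_mul, map_inv, map_zpow, hk, mul_inv_cancel])
  push_cast at hmem
  exact hmem

theorem Data.cent_E (hdr : d = r) {e : G} (he : e ∈ E) (hes : Commute e s) :
    ∃ z ∈ fixG f σ, ∃ k : ℤ, e = z * s ^ k := by
  obtain ⟨z, hz, k, rfl⟩ := D.E_eq hdr he
  refine ⟨z, D.mem_fixG.2 ⟨hz, ?_⟩, k, rfl⟩
  have h := hes.mul_left ((Commute.refl s).zpow_left k).inv_left
  rwa [mul_inv_cancel_right] at h

variable {T : Sylow 2 G} {a b n : G} (S : AbCentMax.Sys t (fixG f σ) T a b n)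
include S

theorem Data.imE_eq (hdr : d = r) : imE E s = imE (fixG f σ) s := by
  refine le_antisymm ?_
    (map_mono fun v hv => mem_subgroupOf.2 (D.cfg.hyp.le (D.fixG_le (mem_subgroupOf.1 hv))))
  rintro _ ⟨e, he, rfl⟩
  obtain ⟨z, hz, k, hzk⟩ := D.cent_E hdr (mem_subgroupOf.1 he) (mem_centralizer_singleton_iff.1 e.2)
  refine ⟨⟨z, D.fix_le_cent S hz⟩, mem_subgroupOf.2 hz, qmk_eq.2 ?_⟩
  show z⁻¹ * (e : G) ∈ zpowers s
  rw [hzk, inv_mul_cancel_left]
  exact zpow_mem (mem_zpowers s) k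

theorem Data.cent_sylowQ (hdr : d = r) :
    centralizer ((D.sylowQ S : Subgroup (CQ s)) : Set (CQ s)) ≤ (D.sylowQ S : Subgroup (CQ s)) := by
  intro y hy
  obtain ⟨x, rfl⟩ := QuotientGroup.mk'_surjective _ y
  have hT : ∀ v (hv : v ∈ T), v * v = 1 → Commute (x : G) v := fun v hv hvv =>
    D.lift_comm S (z := ⟨v, D.T_le_cent S hv⟩) hvv
      (mem_centralizer_iff.1 hy _ ((D.mem_sylowQ S).2 ⟨v, hv, rfl⟩)).symm
  have hxt := hT t S.tT D.cfg.hyp.tt
  have hxa := hT a S.aT (by rw [← pow_two, ← S.ao, pow_orderOf_eq_one])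
  have hxb := hT b S.bT (by rw [← pow_two, ← S.bo, pow_orderOf_eq_one])
  obtain ⟨e, he, r'⟩ := D.cfg.hyp.split x hxt
  have heq : e = x ∨ e = t * x := by
    rcases r' with r' | r'
    · exact Or.inl r'.symm
    · exact Or.inr (by rw [r', ← mul_assoc, D.cfg.hyp.tt, one_mul])
  have hcomm : ∀ {v : G}, v ∈ T → Commute (x : G) v → Commute e v := fun {v} hv hxv => by
    rcases heq with h | h <;> rw [h]
    · exact hxv
    · exact (S.tcomm t S.tT v hv).mul_left hxv
  have hes : Commute e s := by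
    rcases heq with h | h <;> rw [h]
    · exact mem_centralizer_singleton_iff.1 x.2
    · exact D.s_comm_t.symm.mul_left (mem_centralizer_singleton_iff.1 x.2)
  obtain ⟨z, hz, k, hzk⟩ := D.cent_E hdr he hes
  have hzeq : z = e * (s ^ k)⁻¹ := by rw [hzk, mul_inv_cancel_right]
  have hzc : ∀ {v : G}, v ∈ T → Commute e v → Commute z v := fun {v} hv hev => by
    rw [hzeq]; exact hev.mul_left (((D.comm_T S hv).zpow_right k).inv_right.symm)
  have hzT := D.mem_T_of_cent S (D.fixG_le hz) (hzc S.aT (hcomm S.aT hxa)) (hzc S.bT (hcomm S.bT hxb))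
  rcases r' with r' | r'
  · refine (D.mem_sylowQ S).2 ⟨z, hzT, qmk_eq.2 ?_⟩
    show z⁻¹ * (x : G) ∈ zpowers s
    rw [r', hzk, inv_mul_cancel_left]
    exact zpow_mem (mem_zpowers s) k
  · refine (D.mem_sylowQ S).2 ⟨t * z, (T : Subgroup G).mul_mem S.tT hzT, qmk_eq.2 ?_⟩
    show (t * z)⁻¹ * (x : G) ∈ zpowers s
    rw [r', hzk, show (t * z)⁻¹ * (t * (z * s ^ k)) = s ^ k by group]
    exact zpow_mem (mem_zpowers s) k

/-- The primes of the quotient in the small cases. -/
theorem Data.smallPrimes (h : Nat.card (fixF p σ) = 3 ∨ Nat.card (fixF p σ) = 5) : SmallPrimes (CQ s) p := by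
  obtain ⟨hqp, hdr⟩ := D.small_q h
  obtain ⟨iF, hH⟩ := D.hypQ S
  obtain ⟨a', b', n', hS, hn⟩ := D.sysQ S
  rw [D.imE_eq S hdr] at hH
  have c := D.cell S
  rcases h with h | h
  · have hp3 : p = 3 := hqp.symm.trans h
    have h24 : Nat.card ↥(centralizer ({qmk s ⟨t, D.T_le_cent S S.tT⟩} : Set (CQ s))) = 24 := by
      rw [hyp_card_cent hH]
      obtain ⟨g⟩ := hH.iso
      obtain ⟨g'⟩ := D.fixG_iso
      have hc := D.card_fixG
      rw [h] at hc
      rw [Nat.card_congr g.toEquiv, ← Nat.card_congr g'.toEquiv, hc]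
      norm_num
    subst hp3
    exact c.small_three hS.no hn (hH.comm n' hS.nE).symm h24 (D.cent_sylowQ S hdr)
  · have hp5 : p = 5 := hqp.symm.trans h
    subst hp5
    exact c.small_five hH (by rw [← Nat.card_eq_fintype_card]; exact h) hS hn (D.cent_sylowQ S hdr)

/-- The contradiction. -/
theorem Data.false_of_small (hP : SmallPrimes (CQ s) p) : False := by
  classical
  haveI := D.cfg.simple
  haveI := Fact.mk D.prime
  have hnorm : ∀ g : G, g * s * g⁻¹ ∈ zpowers s → g * s * g⁻¹ = s := fun g hg => D.norm_s S hg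
  have hsC : s ∈ centralizer ({s} : Set G) := mem_centralizer_singleton_iff.2 rfl
  by_cases hrQ : r ∣ Nat.card (CQ s)
  · -- the transfer lemma
    obtain ⟨hr2, y₀, c₀, i, hyo, hc₀, hi⟩ := hP r D.prime D.five_le D.r_ne_p hrQ
    obtain ⟨y, rfl⟩ := QuotientGroup.mk'_surjective _ y₀
    obtain ⟨c, rfl⟩ := QuotientGroup.mk'_surjective _ c₀
    rw [← map_inv, ← map_mul, ← map_mul, ← map_pow] at hc₀
    obtain ⟨j, hj⟩ := mem_zpowers_iff.1 (qmk_eq.1 hc₀.symm)
    push_cast at hj
    have hcs : Commute (c : G) s := mem_centralizer_singleton_iff.1 c.2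
    have hys : Commute (y : G) s := mem_centralizer_singleton_iff.1 y.2
    have hcy : (c : G) * y * (c : G)⁻¹ = (y : G) ^ i * s ^ j := by
      rw [hj, mul_inv_cancel_left]
    have hi1 : (i : ZMod r) - 1 ≠ 0 := fun e => hi (by rw [sub_eq_zero.1 e, one_pow])
    have hsord : ∀ {z : ℤ}, s ^ z = 1 ↔ ((z : ℤ) : ZMod r) = 0 := fun {z} => by
      rw [ZMod.intCast_zmod_eq_zero_iff_dvd, ← D.s_ord, orderOf_dvd_iff_zpow_eq_one]
    -- `y` has order `r`
    obtain ⟨l, hl⟩ := mem_zpowers_iff.1 (qmk_one.1 (show qmk s (y ^ r) = 1 by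
      rw [map_pow, ← hyo]; exact pow_orderOf_eq_one _))
    push_cast at hl
    have hyr : (y : G) ^ r = 1 := by
      have h1 : ((c : G) * y * (c : G)⁻¹) ^ r = s ^ l := by
        rw [conj_pow, ← hl, (hcs.zpow_right l).eq, mul_inv_cancel_right]
      rw [hcy, ((hys.pow_left i).zpow_right j).mul_pow, ← pow_mul, mul_comm i r, pow_mul, ← hl, D.zpow_pow,
        mul_one, ← zpow_natCast, ← zpow_mul] at h1
      have h2 : s ^ (l * ((i : ℤ) - 1)) = 1 := by
        rw [mul_sub, mul_one, zpow_sub, h1, mul_inv_cancel]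
      rw [hsord] at h2
      push_cast at h2
      rw [← hl, hsord]
      exact (mul_eq_zero.1 h2).resolve_right hi1
    -- correct the eigenvalue
    obtain ⟨k, hk⟩ : ∃ k : ℤ, ((k : ℤ) : ZMod r) * ((i : ZMod r) - 1) = (j : ZMod r) := by
      obtain ⟨k, hk⟩ := ZMod.intCast_surjective ((j : ZMod r) * ((i : ZMod r) - 1)⁻¹)
      exact ⟨k, by rw [hk, inv_mul_cancel_right₀ hi1]⟩
    set w : G := (y : G) * s ^ k with hw
    have hws : Commute (y : G) (s ^ k) := hys.zpow_right k
    have hwcy : (c : G) * w * (c : G)⁻¹ = w ^ i := by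
      rw [hw, show (c : G) * ((y : G) * s ^ k) * (c : G)⁻¹ = ((c : G) * y * (c : G)⁻¹) * ((c : G) * s ^ k * (c : G)⁻¹)
        by group, hcy, (hcs.zpow_right k).eq, mul_inv_cancel_right, hws.mul_pow, mul_assoc, ← zpow_natCast (s ^ k),
        ← zpow_mul, ← zpow_add]
      congr 1
      rw [← mul_inv_eq_one, ← zpow_sub, hsord]
      push_cast
      linear_combination -hk
    have hwnot : w ∉ zpowers s := fun hm => by
      have h1 : (y : G) ∈ zpowers s := by
        simpa [hw] using mul_mem hm (inv_mem (zpow_mem (mem_zpowers s) k))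
      rw [qmk_one.2 h1, orderOf_one] at hyo
      exact D.prime.one_lt.ne hyo
    have hwo : orderOf w = r := orderOf_eq_prime (by rw [hw, hws.mul_pow, hyr, D.zpow_pow, mul_one])
      fun e => hwnot (e ▸ one_mem _)
    refine Ree.Transfer.not_simple D.cfg.nab (φ := s) (y := w)
      ⟨D.r_odd, D.s_ord, hwo, (hys.mul_left ((Commute.refl s).zpow_left k)).symm, hwnot, fun h3 => hr2 ?_, hnorm⟩
      hcs hwcy hi
    rw [D.card_quot, pow_succ', pow_two] at h3
    exact Nat.dvd_of_mul_dvd_mul_left D.prime.pos h3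
  · -- Burnside
    obtain ⟨P, hP'⟩ := (IsPGroup.of_card (G := zpowers s) (p := r) (n := 1)
      (by rw [Nat.card_zpowers, D.s_ord, pow_one])).exists_le_sylow
    have hPX : (P : Subgroup G) ≤ centralizer ({s} : Set G) := fun x hx =>
      mem_centralizer_singleton_iff.2 (D.cfg.comm_of_pgroup D.prime P.2 hx (hP' (mem_zpowers s))).eq
    have hPc : Nat.card ↥(P : Subgroup G) = r := by
      obtain ⟨j, hj⟩ := P.2.exists_card_eq
      have h1 : r ∣ Nat.card ↥(P : Subgroup G) := by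
        exact (dvd_of_eq D.s_ord.symm).trans ((P : Subgroup G).orderOf_dvd_natCard (hP' (mem_zpowers s)))
      have h2 : Nat.card ↥(P : Subgroup G) ∣ r * Nat.card (CQ s) := D.card_quot ▸ card_dvd_of_le hPX
      rcases j with _ | _ | j
      · rw [hj, pow_zero] at h1
        exact absurd (Nat.eq_one_of_dvd_one h1) D.prime.ne_one
      · simpa using hj
      · exfalso
        rw [hj, pow_succ'] at h2
        exact hrQ ((dvd_pow_self r (by omega)).trans (Nat.dvd_of_mul_dvd_mul_left D.prime.pos h2))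
    have hPeq : (P : Subgroup G) = zpowers s := (eq_of_le_of_card_ge hP' (by
      rw [hPc, Nat.card_zpowers, D.s_ord])).symm
    have hNC : normalizer ((P : Subgroup G) : Set G) ≤ centralizer ((P : Subgroup G) : Set G) := by
      intro g hg
      refine mem_centralizer_iff.2 fun z hz => ?_
      have hgs : g * s * g⁻¹ ∈ zpowers s := by
        rw [← hPeq]; exact (mem_normalizer_iff.1 hg s).1 (hP' (mem_zpowers s))
      rw [SetLike.mem_coe, hPeq] at hz
      obtain ⟨i, rfl⟩ := mem_zpowers_iff.1 hz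
      exact ((show Commute g s from mul_inv_eq_iff_eq_mul.1 (hnorm g hgs)).zpow_right i).eq.symm
    have hcomp := MonoidHom.ker_transferSylow_isComplement' P hNC
    rcases IsSimpleGroup.eq_bot_or_eq_top_of_normal _ (MonoidHom.transferSylow P hNC).normal_ker with h | h
    · rw [h, isComplement'_bot_left, hPeq] at hcomp
      refine D.cfg.nab ⟨⟨fun x y => ?_⟩⟩
      obtain ⟨i, rfl⟩ := mem_zpowers_iff.1 (hcomp ▸ mem_top x)
      obtain ⟨j, rfl⟩ := mem_zpowers_iff.1 (hcomp ▸ mem_top y)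
      rw [← zpow_add, ← zpow_add, add_comm]
    · rw [h, isComplement'_top_left] at hcomp
      rw [hcomp, card_bot] at hPc
      exact D.prime.one_lt.ne hPc

end Cfsg.Lib.SylowAb
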