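import Cfsg.Agent.AbEqConj.Semilinear

/-!
The fixed points of a field automorphism of `PSL(2, q)` of odd order and their centraliser in the automorphism
group.
-/

set_option autoImplicit false
set_option linter.unusedSectionVars false
set_option linter.style.haveILetI false

namespace Cfsg.Lib.SylowAb

open Matrix Cfsg.Lib.Known.AutPSL2

variable {F : Type} [Field F] [Fintype F] (p : ℕ) [Fact p.Prime] [CharP F p] [Algebra (ZMod p) F]

local notation "PG" => Matrix.ProjectiveSpecialLinearGroup (Fin 2) F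

/-- The fixed field. -/
abbrev fixF (σ : F ≃ₐ[ZMod p] F) : IntermediateField (ZMod p) F :=
  IntermediateField.fixedField (Subgroup.zpowers σ)

theorem card_fixF (σ : F ≃ₐ[ZMod p] F) : Fintype.card F = Nat.card (fixF p σ) ^ orderOf σ := by
  haveI : FiniteDimensional (ZMod p) F := Module.Finite.of_finite
  letI := Fintype.ofFinite (fixF p σ)
  rw [Module.card_eq_pow_finrank (K := fixF p σ) (V := F), IntermediateField.finrank_fixedField_eq_card,
    Nat.card_zpowers, Nat.card_eq_fintype_card]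

theorem mem_fixF {σ : F ≃ₐ[ZMod p] F} {x : F} : x ∈ fixF p σ ↔ σ x = x := by
  rw [IntermediateField.mem_fixedField_iff]
  refine ⟨fun h => h σ (Subgroup.mem_zpowers σ), fun h τ hτ => ?_⟩
  have hmem : σ ∈ MulAction.stabilizer (F ≃ₐ[ZMod p] F) x := h
  exact (Subgroup.zpowers_le.2 hmem hτ :)

/-- The inclusion of the linear fractional group over the fixed field. -/
noncomputable def incl (σ : F ≃ₐ[ZMod p] F) :
    Matrix.ProjectiveSpecialLinearGroup (Fin 2) (fixF p σ) →* PG :=
  QuotientGroup.map _ _ (Matrix.SpecialLinearGroup.map (fixF p σ).val.toRingHom) fun z hz => by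
    obtain ⟨c, hc, hcz⟩ := Matrix.SpecialLinearGroup.mem_center_iff.1 hz
    refine Subgroup.mem_comap.2 (Matrix.SpecialLinearGroup.mem_center_iff.2 ⟨(c : F), ?_, ?_⟩)
    · simpa using congrArg (fun w : fixF p σ => (w : F)) hc
    · ext i j
      have h := congrArg (fun w : fixF p σ => (w : F)) (congrFun (congrFun hcz i) j)
      simp only [Matrix.scalar_apply, Matrix.diagonal_apply] at h ⊢
      split_ifs at h ⊢ <;> simpa using h

theorem incl_π (σ : F ≃ₐ[ZMod p] F) (M : Matrix.SpecialLinearGroup (Fin 2) (fixF p σ)) :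
    incl p σ (π M) = π (Matrix.SpecialLinearGroup.map (fixF p σ).val.toRingHom M) := rfl

theorem incl_injective (σ : F ≃ₐ[ZMod p] F) : Function.Injective (incl p σ) := by
  refine (injective_iff_map_eq_one _).2 fun x hx => ?_
  obtain ⟨M, rfl⟩ := QuotientGroup.mk'_surjective _ x
  rw [incl_π, ← MonoidHom.mem_ker, QuotientGroup.ker_mk'] at hx
  obtain ⟨c, hc, hcM⟩ := Matrix.SpecialLinearGroup.mem_center_iff.1 hx
  have hcm : c ∈ fixF p σ := by
    have h := congrFun (congrFun hcM 0) 0
    simp at h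
    rw [h]
    exact (M.1 0 0).2
  refine (QuotientGroup.eq_one_iff _).2 (Matrix.SpecialLinearGroup.mem_center_iff.2
    ⟨⟨c, hcm⟩, Subtype.ext (by simpa using hc), ?_⟩)
  ext i j
  refine Eq.trans ?_ (congrFun (congrFun hcM i) j)
  simp only [Matrix.scalar_apply, Matrix.diagonal_apply]
  split_ifs <;> simp

/-- The fixed points are the linear fractional group over the fixed field. -/
theorem mem_range_incl {σ : F ≃ₐ[ZMod p] F} (hσ : Odd (orderOf σ)) {z : PG} :
    z ∈ (incl p σ).range ↔ fieldAut p σ z = z := by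
  constructor
  · rintro ⟨x, rfl⟩
    obtain ⟨M, rfl⟩ := QuotientGroup.mk'_surjective _ x
    rw [incl_π]
    change π (Matrix.SpecialLinearGroup.map _ _) = _
    congr 1
    ext i j
    exact mem_fixF p |>.1 (M.1 i j).2
  · intro hz
    obtain ⟨M, rfl⟩ := QuotientGroup.mk'_surjective _ z
    obtain ⟨c, hc, hM⟩ := π_eq (show π (Matrix.SpecialLinearGroup.map σ.toRingEquiv.toRingHom M) = π M from hz)
    have hent : ∀ i j, M.1 i j = c * σ (M.1 i j) := fun i j => congrFun (congrFun hM i) j
    have hfix : ∀ i j, σ (M.1 i j) = M.1 i j := by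
      rcases mul_self_eq_one_iff.1 hc with rfl | rfl
      · exact fun i j => by rw [← one_mul (σ _), ← hent]
      · intro i j
        have h1 : σ (M.1 i j) = -(M.1 i j) := by
          have := hent i j
          linear_combination this
        have hk : ∀ k : ℕ, (σ ^ k) (M.1 i j) = (-1) ^ k * M.1 i j := by
          intro k
          induction k with
          | zero => simp
          | succ k ih => rw [pow_succ', AlgEquiv.mul_apply, ih, map_mul, map_pow, map_neg, map_one, h1]; ring
        have h2 := hk (orderOf σ)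
        rw [pow_orderOf_eq_one, AlgEquiv.one_apply, hσ.neg_one_pow, neg_one_mul] at h2
        rw [h1, ← h2]
    let A : Matrix (Fin 2) (Fin 2) (fixF p σ) := fun i j => ⟨M.1 i j, (mem_fixF p).2 (hfix i j)⟩
    refine ⟨π ⟨A, Subtype.ext ?_⟩, ?_⟩
    · rw [det_fin_two]
      have h := M.2
      rw [det_fin_two] at h
      simpa [A] using h
    · refine Eq.trans (incl_π p σ _) (congrArg π (Subtype.ext ?_))
      ext i j
      rfl

/-- An automorphism fixing the fixed points is a power of the field automorphism. -/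
theorem eq_field_of_fix {σ : F ≃ₐ[ZMod p] F} {d : ℕ} (hd : 1 ≤ d)
    (hF : Fintype.card F = p ^ d) {α : MulAut PG} (h : ∀ z, fieldAut p σ z = z → α z = z) :
    ∃ τ ∈ Subgroup.zpowers σ, α = fieldAut p τ := by
  obtain ⟨g, a, τ, rfl⟩ := exists_decomp p hd hF α
  obtain ⟨M, rfl⟩ := QuotientGroup.mk'_surjective _ g
  have hu : ∀ y : F, (MulAut.conj (π M) * diagAut a * fieldAut p τ) (π (uS y)) =
      π (M * uS ((a : F) * τ y) * M⁻¹) := fun y => by
    rw [MulAut.mul_apply, MulAut.mul_apply, fieldAut_u, diagAut_u, MulAut.conj_apply, map_mul, map_mul, map_inv]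
  have hv : ∀ y : F, (MulAut.conj (π M) * diagAut a * fieldAut p τ) (π (vS y)) =
      π (M * vS ((a⁻¹ : Fˣ) * τ y) * M⁻¹) := fun y => by
    rw [MulAut.mul_apply, MulAut.mul_apply, fieldAut_v, diagAut_v, MulAut.conj_apply, map_mul, map_mul, map_inv]
  have fu : ∀ y : F, σ y = y → π (uS y) = π (M * uS ((a : F) * τ y) * M⁻¹) := fun y hy => by
    rw [← hu, h _ (by rw [fieldAut_u, hy])]
  have fv : ∀ y : F, σ y = y → π (vS y) = π (M * vS ((a⁻¹ : Fˣ) * τ y) * M⁻¹) := fun y hy => by
    rw [← hv, h _ (by rw [fieldAut_v, hy])]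
  have h10 : M.1 1 0 = 0 := by
    have := π_eq_apply (fu 1 (map_one σ)) 1 0 (by simp [coe_uS])
    rw [conj_uS] at this
    simpa using this
  have h01 : M.1 0 1 = 0 := by
    have := π_eq_apply (fv 1 (map_one σ)) 0 1 (by simp [coe_vS])
    rw [conj_vS] at this
    simpa using this
  have hd' := M.2
  rw [det_fin_two, h10, mul_zero, sub_zero] at hd'
  set b : F := M.1 0 0 ^ 2 * (a : F) with hb
  have hU : ∀ y : F, π (M * uS ((a : F) * τ y) * M⁻¹) = π (uS (b * τ y)) := fun y => by
    congr 1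
    refine sl_ext ?_
    rw [conj_uS, coe_uS, hb, h10]
    simp [mul_assoc]
  have hb1 : b = 1 := by
    have := uS_injective_π ((fu 1 (map_one σ)).trans (hU 1))
    rwa [map_one, mul_one, eq_comm] at this
  have hb2 : M.1 1 1 ^ 2 * ((a⁻¹ : Fˣ) : F) = 1 := by
    have e : M.1 0 0 ^ 2 * (a : F) * (M.1 1 1 ^ 2 * ((a⁻¹ : Fˣ) : F)) = 1 := by
      rw [show M.1 0 0 ^ 2 * (a : F) * (M.1 1 1 ^ 2 * ((a⁻¹ : Fˣ) : F)) =
        (M.1 0 0 * M.1 1 1) ^ 2 * ((a : F) * ((a⁻¹ : Fˣ) : F)) by ring, hd', Units.mul_inv]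
      ring
    rwa [← hb, hb1, one_mul] at e
  have hα : MulAut.conj (π M) * diagAut a * fieldAut p τ = fieldAut p τ := by
    refine aut_ext (fun y => ?_) (fun y => ?_)
    · rw [hu, hU, hb1, one_mul, fieldAut_u]
    · rw [hv, fieldAut_v]
      congr 1
      refine sl_ext ?_
      rw [conj_vS, coe_vS, h01]
      have hb3 : M.1 1 1 ^ 2 * (a : F)⁻¹ = 1 := by simpa using hb2
      simp [← mul_assoc, hb3]
  refine ⟨τ, ?_, hα⟩
  haveI : FiniteDimensional (ZMod p) F := Module.Finite.of_finite
  rw [← IntermediateField.fixingSubgroup_fixedField (Subgroup.zpowers σ), IntermediateField.mem_fixingSubgroup_iff]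
  intro y hy
  have := h (π (uS y)) (by rw [fieldAut_u, (mem_fixF p).1 hy])
  rw [hα, fieldAut_u] at this
  exact uS_injective_π this

end Cfsg.Lib.SylowAb
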