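import Cfsg.Agent.SylowAbelian.Field
import Cfsg.Agent.SylowAbelian.Cell
import Cfsg.Agent.Blocks.DihedralOdd
import Cfsg.Agent.S0215

/-!
The centralizer of the field automorphism: transitivity on the involutions, odd normal subgroups, and the
normalizer of `⟨s⟩`.
-/

set_option autoImplicit false
set_option linter.unusedSectionVars false
set_option linter.style.haveILetI false

namespace Cfsg.Lib.SylowAb

open Subgroup Cfsg.Lib.Known.AutPSL2
open scoped Pointwise

universe u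

variable {G : Type u} [Group G] [Finite G] {t : G} {E E₀ : Subgroup G} {F : Type} [Field F] [Fintype F]
  {p : ℕ} [Fact p.Prime] [CharP F p] [Algebra (ZMod p) F]
  {f : ↥E₀ ≃* Matrix.ProjectiveSpecialLinearGroup (Fin 2) F} {σ : F ≃ₐ[ZMod p] F} {s : G} {r d : ℕ}
  (D : Data t E E₀ F p f σ s r d)
include D

theorem Data.fixG_iso :
    Nonempty (↥(fixG f σ) ≃* Matrix.ProjectiveSpecialLinearGroup (Fin 2) (fixF p σ)) :=
  ⟨(MonoidHom.ofInjective (f := (embP f).comp (incl p σ))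
    ((embP_injective f).comp (incl_injective p σ))).symm⟩

theorem Data.faith_fix {e : G} (he : e ∈ fixG f σ) (hc : ∀ x ∈ fixG f σ, Commute e x) : e = 1 := by
  haveI := Fintype.ofFinite (fixF p σ)
  obtain ⟨z, rfl⟩ := he
  have hz : z ∈ center (Matrix.ProjectiveSpecialLinearGroup (Fin 2) (fixF p σ)) := mem_center_iff.2 fun w =>
    ((embP_injective f).comp (incl_injective p σ)) (by
      rw [Function.comp_apply, Function.comp_apply, map_mul, map_mul, map_mul, map_mul]
      exact (hc _ ⟨w, rfl⟩).symm.eq)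
  rw [Cfsg.Lib.BGN.P.psl_center_eq_bot, mem_bot] at hz
  rw [hz, map_one]

/-- The fixed points with `t` form a configuration. -/
theorem Data.exists_fixHyp : ∃ (_ : Fintype (fixF p σ)) (K : Subgroup G) (htK : t ∈ K), fixG f σ ≤ K ∧
    AbCentMax.Hyp (⟨t, htK⟩ : ↥K) ((fixG f σ).subgroupOf K) ((fixG f σ).subgroupOf K) (fixF p σ) := by
  classical
  haveI : Fact (Nat.Prime 2) := ⟨Nat.prime_two⟩
  letI := Fintype.ofFinite (fixF p σ)
  have hcomm : ∀ e ∈ fixG f σ, Commute t e := fun e he =>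
    D.cfg.hyp.comm e (D.cfg.hyp.le (D.fixG_le he))
  let K : Subgroup G :=
    { carrier := {x | ∃ e ∈ fixG f σ, x = e ∨ x = t * e}
      one_mem' := ⟨1, one_mem _, Or.inl rfl⟩
      mul_mem' := by
        rintro x y ⟨e, he, hx⟩ ⟨e', he', hy⟩
        refine ⟨e * e', mul_mem he he', ?_⟩
        rcases hx with rfl | rfl <;> rcases hy with rfl | rfl
        · exact Or.inl rfl
        · exact Or.inr (by rw [← mul_assoc, ← (hcomm _ he).eq, mul_assoc])
        · exact Or.inr (mul_assoc _ _ _)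
        · exact Or.inl (by
            rw [show ∀ u v : G, t * u * (t * v) = t * (u * t) * v from fun u v => by group, ← (hcomm _ he).eq,
              ← mul_assoc t t, D.cfg.hyp.tt, one_mul])
      inv_mem' := by
        rintro x ⟨e, he, rfl | rfl⟩
        · exact ⟨_, inv_mem he, Or.inl rfl⟩
        · exact ⟨_, inv_mem he, Or.inr (by
            rw [_root_.mul_inv_rev, D.cfg.hyp.t_inv, ((hcomm _ he).inv_right).eq])⟩ }
  have htK : t ∈ K := ⟨1, one_mem _, Or.inr (mul_one t).symm⟩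
  have hfK : fixG f σ ≤ K := fun e he => ⟨e, he, Or.inl rfl⟩
  have hodd : Odd (Fintype.card (fixF p σ)) := by
    rw [← Nat.card_eq_fintype_card, Nat.odd_iff]
    have := D.fix_mod
    have := D.cfg.modq
    omega
  obtain ⟨g⟩ := D.fixG_iso
  have hH : AbCentMax.Hyp (⟨t, htK⟩ : ↥K) ((fixG f σ).subgroupOf K) ((fixG f σ).subgroupOf K) (fixF p σ) := by
    refine ⟨by rw [Subgroup.orderOf_mk, D.cfg.hyp.ord],
      fun e he => Subtype.ext (hcomm e (mem_subgroupOf.1 he)).eq, fun x _ => ?_,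
      fun ht => D.cfg.hyp.disj (D.cfg.hyp.le (D.fixG_le (mem_subgroupOf.1 ht))), le_rfl,
      fun e he x hx => mem_subgroupOf.2 (mul_mem (mul_mem (mem_subgroupOf.1 he) (mem_subgroupOf.1 hx))
        (inv_mem (mem_subgroupOf.1 he))),
      fun e he hall => Subtype.ext (D.faith_fix (mem_subgroupOf.1 he) fun x hx =>
        congrArg Subtype.val (hall ⟨x, hfK hx⟩ (mem_subgroupOf.2 hx)).eq), hodd,
      ⟨(subgroupOfEquivOfLe hfK).trans g⟩⟩
    obtain ⟨e, he, r⟩ := x.2
    exact ⟨⟨e, hfK he⟩, mem_subgroupOf.2 he, r.imp (fun r => Subtype.ext r) fun r => Subtype.ext r⟩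
  exact ⟨inferInstance, K, htK, hfK, hH⟩

/-- A Sylow frame inside the centralizer of `s`. -/
theorem Data.exists_frame :
    ∃ (T : Sylow 2 G) (a b n : G), AbCentMax.Sys t (fixG f σ) T a b n := by
  haveI : Fact (Nat.Prime 2) := ⟨Nat.prime_two⟩
  obtain ⟨_, K, htK, hfK, hH⟩ := D.exists_fixHyp
  obtain ⟨T', a, b, n, S⟩ := AbCentMax.exists_sys hH (fun S => ⟨⟨fun x y => Subtype.ext (Subtype.ext
    (D.cfg.comm_of_pgroup Nat.prime_two (S.2.map K.subtype) ⟨_, x.2, rfl⟩ ⟨_, y.2, rfl⟩).eq)⟩⟩)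
  obtain ⟨T, hT⟩ := (show IsPGroup 2 ↥((T' : Subgroup ↥K).map K.subtype) from T'.2.map _).exists_le_sylow
  have hTeq : (T' : Subgroup ↥K).map K.subtype = T := eq_of_le_of_card_ge hT (by
    rw [D.cfg.card_eight T, card_map_of_injective K.subtype_injective, (AbCentMax.three_dvd hH S).2])
  refine ⟨T, a, b, n, ?_⟩
  refine
    { tT := hT ⟨_, S.tT, rfl⟩
      tcomm := fun x hx y hy => D.cfg.comm_of_pgroup Nat.prime_two T.2 hx hy
      aE := mem_subgroupOf.1 S.aE
      bE := mem_subgroupOf.1 S.bE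
      nE := mem_subgroupOf.1 S.nE
      ao := by rw [orderOf_coe, S.ao]
      bo := by rw [orderOf_coe, S.bo]
      ne := fun e => S.ne (Subtype.ext e)
      aT := hT ⟨_, S.aT, rfl⟩
      bT := hT ⟨_, S.bT, rfl⟩
      cases := ?_
      na := congrArg Subtype.val S.na
      nb := congrArg Subtype.val S.nb
      no := by rw [orderOf_coe, S.no] }
  intro x hx
  replace hx : x ∈ (T : Subgroup G) := hx
  rw [← hTeq] at hx
  obtain ⟨y, hy, rfl⟩ := hx
  obtain ⟨v, hv, r⟩ := S.cases y hy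
  refine ⟨(v : G), ?_, r.imp (fun r => by rw [r]; rfl) fun r => by rw [r]; rfl⟩
  rcases hv with rfl | rfl | rfl | rfl
  · exact Or.inl rfl
  · exact Or.inr (Or.inl rfl)
  · exact Or.inr (Or.inr (Or.inl rfl))
  · exact Or.inr (Or.inr (Or.inr rfl))

/-- An element of prime order `r` of `E₀` is trivial. -/
theorem Data.eq_one_of_mem {x : G} (hx : x ∈ E₀) (hxr : x ^ r = 1) : x = 1 :=
  orderOf_eq_one_iff.1 (Nat.eq_one_of_dvd_coprimes (D.prime.coprime_iff_not_dvd.2 D.not_dvd)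
    (orderOf_dvd_of_pow_eq_one hxr) (E₀.orderOf_dvd_natCard hx))

theorem Data.s_pow : s ^ r = 1 := by rw [← D.s_ord, pow_orderOf_eq_one]

theorem Data.zpow_pow (i : ℤ) : (s ^ i) ^ r = 1 := by
  rw [← zpow_natCast, ← zpow_mul, mul_comm, zpow_mul, zpow_natCast, D.s_pow, one_zpow]

variable {T : Sylow 2 G} {a b n : G} (S : AbCentMax.Sys t (fixG f σ) T a b n)
include S

/-- The frame as one in `E₀`. -/
theorem Data.sys : AbCentMax.Sys t E₀ T a b n :=
  { S with aE := D.fixG_le S.aE, bE := D.fixG_le S.bE, nE := D.fixG_le S.nE }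

theorem Data.comm_T {x : G} (hx : x ∈ T) : Commute x s := by
  obtain ⟨v, hv, r⟩ := S.cases x hx
  have hv' : v ∈ fixG f σ := by
    rcases hv with rfl | rfl | rfl | rfl
    · exact one_mem _
    · exact S.aE
    · exact S.bE
    · exact mul_mem S.aE S.bE
  rcases r with rfl | rfl
  · exact (D.mem_fixG.1 hv').2
  · exact D.s_comm_t.symm.mul_left (D.mem_fixG.1 hv').2

/-- The elements of `E₀` centralising the four group. -/
theorem Data.mem_T_of_cent {z : G} (hz : z ∈ E₀) (hza : Commute z a) (hzb : Commute z b) : z ∈ T := by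
  classical
  haveI : Fact (Nat.Prime 2) := ⟨Nat.prime_two⟩
  obtain ⟨k, m, hm, hzo⟩ := Nat.exists_eq_pow_mul_and_not_dvd (orderOf_pos z).ne' 2 (by norm_num)
  have hy : z ^ (2 ^ k) = 1 := by
    refine D.cfg.hyp.eq_one_of_comm (D.fixG_le S.aE) S.ao (D.fixG_le S.bE) S.bo S.ne (S.tcomm a S.aT b S.bT)
      (pow_mem hz _) ?_ (hza.pow_left _) (hzb.pow_left _)
    rw [orderOf_pow_of_dvd (by positivity) (hzo ▸ dvd_mul_right _ _), hzo, Nat.mul_div_cancel_left _ (by positivity)]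
    exact Nat.not_even_iff_odd.1 fun he => hm he.two_dvd
  have h2 : IsPGroup 2 ↥(zpowers z) := by
    obtain ⟨j, -, hj⟩ := (Nat.dvd_prime_pow Nat.prime_two).1 (orderOf_dvd_of_pow_eq_one hy)
    exact IsPGroup.of_card (n := j) (by rw [Nat.card_zpowers, hj])
  have hn : zpowers z ≤ normalizer ((T : Subgroup G) : Set G) := by
    refine le_trans (zpowers_le.2 ?_) (centralizer_le_normalizer _)
    refine mem_centralizer_iff.2 fun x hx => ?_
    obtain ⟨v, hv, r⟩ := S.cases x hx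
    have hvz : Commute v z := by
      rcases hv with rfl | rfl | rfl | rfl
      · exact Commute.one_left z
      · exact hza.symm
      · exact hzb.symm
      · exact hza.symm.mul_left hzb.symm
    rcases r with rfl | rfl
    · exact hvz.eq
    · exact ((D.cfg.hyp.comm z (D.cfg.hyp.le hz)).mul_left hvz).eq
  have := T.is_maximal' (h2.to_sup_of_normal_right' T.2 hn) le_sup_right
  have hm : z ∈ zpowers z ⊔ (T : Subgroup G) := mem_sup_left (mem_zpowers z)
  rw [this] at hm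
  exact hm

theorem Data.n_norm : n ∈ normalizer ((T : Subgroup G) : Set G) := by
  refine Cfsg.Lib.ZStarApps.mem_normalizer_of_maps fun x hx => ?_
  have hnt : n * t * n⁻¹ = t := by
    rw [← (D.cfg.hyp.comm n (D.cfg.hyp.le (D.fixG_le S.nE))).eq, mul_inv_cancel_right]
  have hR : ∀ v, (v = 1 ∨ v = a ∨ v = b ∨ v = a * b) → n * v * n⁻¹ ∈ T := by
    rintro v (rfl | rfl | rfl | rfl)
    · simp
    · rw [S.na]; exact S.bT
    · rw [S.nb]; exact (T : Subgroup G).mul_mem S.aT S.bT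
    · rw [show n * (a * b) * n⁻¹ = (n * a * n⁻¹) * (n * b * n⁻¹) by group, S.na, S.nb]
      exact (T : Subgroup G).mul_mem S.bT ((T : Subgroup G).mul_mem S.aT S.bT)
  obtain ⟨v, hv, r | r⟩ := S.cases x hx
  · rw [r]; exact hR v hv
  · rw [r, show n * (t * v) * n⁻¹ = (n * t * n⁻¹) * (n * v * n⁻¹) by group, hnt]
    exact (T : Subgroup G).mul_mem S.tT (hR v hv)

/-- The normalizer of `T` normalizes `⟨s⟩`. -/
theorem Data.conj_s {w : G} (hw : w ∈ normalizer ((T : Subgroup G) : Set G)) : w * s * w⁻¹ ∈ zpowers s := by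
  classical
  obtain ⟨χ, hχ⟩ := D.cfg.exists_proj D.d_pos D.hF
  haveI : NeZero d := ⟨by have := D.d_pos; omega⟩
  haveI := Fact.mk D.prime
  set s' := w * s * w⁻¹ with hs'
  have hs'o : orderOf s' = r := by
    rw [hs', show w * s * w⁻¹ = (MulAut.conj w) s from rfl, MulEquiv.orderOf_eq, D.s_ord]
  have hcT : ∀ x ∈ T, Commute x s' := fun x hx => by
    have := (D.comm_T S ((mem_normalizer_iff.1 (inv_mem hw) x).1 hx)).map (MulAut.conj w).toMonoidHom
    simpa [hs', mul_assoc] using this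
  have hs'E : s' ∈ E := D.cfg.hyp.odd_mem_E (hs'o ▸ D.prime.odd_of_ne_two D.r_odd) (hcT t S.tT).symm
  have hord : ∀ (x : G) (hx : x ∈ E), orderOf x = r → orderOf (χ ⟨x, hx⟩) = r := fun x hx ho => by
    refine orderOf_eq_prime ?_ fun e => ?_
    · rw [← map_pow, show (⟨x, hx⟩ : ↥E) ^ r = 1 from Subtype.ext (by
        simp only [SubmonoidClass.coe_pow, OneMemClass.coe_one]; exact ho ▸ pow_orderOf_eq_one x), map_one]
    · have h1 : x = 1 := D.eq_one_of_mem ((hχ _).1 e) (ho ▸ pow_orderOf_eq_one x)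
      rw [h1, orderOf_one] at ho
      exact D.prime.one_lt.ne ho
  obtain ⟨k, hk⟩ := mem_zpowers_iff.1
    (EqualOrder.mem_zpowers_of_cyclic D.prime (hord s D.sE D.s_ord) (hord s' hs'E hs'o))
  set z := s' * (s ^ k)⁻¹ with hz
  have hzE : z ∈ E₀ := by
    have h : χ (⟨s', hs'E⟩ * (⟨s, D.sE⟩ ^ k)⁻¹) = 1 := by rw [map_mul, map_inv, map_zpow, hk, mul_inv_cancel]
    simpa [hz] using (hχ _).1 h
  have hcs : ∀ x ∈ T, Commute z x := fun x hx =>
    (hcT x hx).symm.mul_left (((D.comm_T S hx).zpow_right k).inv_right.symm)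
  have hzT := D.mem_T_of_cent S hzE (hcs a S.aT) (hcs b S.bT)
  have hzs : Commute z (s ^ k) := (D.comm_T S hzT).zpow_right k
  have hs'eq : s' = z * s ^ k := by rw [hz, inv_mul_cancel_right]
  have hzr : z ^ r = 1 := by
    have h : s' ^ r = 1 := by rw [← hs'o, pow_orderOf_eq_one]
    rwa [hs'eq, hzs.mul_pow, D.zpow_pow, mul_one] at h
  rw [hs'eq, D.eq_one_of_mem hzE hzr, one_mul]
  exact zpow_mem (mem_zpowers s) k

/-- All involutions of `T` are conjugate in the normalizer. -/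
theorem Data.trans_norm :
    ∀ x ∈ T, x ≠ 1 → ∃ g ∈ normalizer ((T : Subgroup G) : Set G), g * t * g⁻¹ = x := by
  haveI := D.cfg.simple
  have h := D.cfg.hyp
  obtain ⟨h8, -⟩ := AbCentMax.three_dvd h (D.sys S)
  rcases AbCentMax.orbit_dichotomy h (D.sys S) (H := ⊤) (fun x _ => mem_top x) with hiso | ⟨h1, -⟩
  · exfalso
    obtain ⟨N, hN, hNo, hcomm⟩ := Cfsg.Agent.S0215.result T t h.ord S.tT (fun g => hiso g (mem_top g))
    rcases IsSimpleGroup.eq_bot_or_eq_top_of_normal N hN with e | e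
    · rcases IsSimpleGroup.eq_bot_or_eq_top_of_normal (center G) inferInstance with e' | e'
      · refine h.t_ne (mem_bot.1 (e' ▸ mem_center_iff.2 fun g => ?_))
        have := hcomm g
        rw [e, mem_bot, mul_inv_eq_one] at this
        exact (mul_inv_eq_iff_eq_mul.1 this).symm.symm.symm
      · exact D.cfg.nab ⟨⟨fun x y => (mem_center_iff.1 (e' ▸ mem_top y) x)⟩⟩
    · rw [e, card_top] at hNo
      exact Nat.not_even_iff_odd.2 hNo (even_iff_two_dvd.2 (Dvd.dvd.trans (by norm_num) h8))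
  · exact fun y hy hy1 => let ⟨g, _, hg, e⟩ := h1 y hy hy1; ⟨g, hg, e⟩

/-- ... and already in the part centralizing `s`. -/
theorem Data.trans_s : ∀ x ∈ T, x ≠ 1 →
    ∃ h, Commute h s ∧ h ∈ normalizer ((T : Subgroup G) : Set G) ∧ h * t * h⁻¹ = x := by
  intro x hx hx1
  set W := normalizer ((T : Subgroup G) : Set G) with hW
  obtain ⟨h, hh, e⟩ := trans_sub S (fun ht => D.cfg.hyp.disj (D.cfg.hyp.le (D.fixG_le ht))) (le_refl W)
    (inf_le_left (a := W) (b := centralizer ({s} : Set G))) (fun w hw y hy => by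
      refine mem_inf.2 ⟨mul_mem (mul_mem hw hy.1) (inv_mem hw), mem_centralizer_singleton_iff.2 ?_⟩
      obtain ⟨i, hi⟩ := mem_zpowers_iff.1 (D.conj_s S (inv_mem hw))
      have hc := ((show Commute y s from mem_centralizer_singleton_iff.1 hy.2).zpow_right i).map
        (MulAut.conj w).toMonoidHom
      rw [hi] at hc
      simpa [mul_assoc] using hc.eq)
    (D.trans_norm S) (mem_inf.2 ⟨D.n_norm S, mem_centralizer_singleton_iff.2 (D.mem_fixG.1 S.nE).2.eq⟩)
    (D.cfg.hyp.comm n (D.cfg.hyp.le (D.fixG_le S.nE))).symm x hx hx1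
  exact ⟨h, mem_centralizer_singleton_iff.1 hh.2, hh.1, e⟩

/-- An involution centralizing `s` is conjugate to `t` under the centralizer of `s`. -/
theorem Data.conj_cent {x : G} (hx : orderOf x = 2) (hxs : Commute x s) :
    ∃ h, Commute h s ∧ h * t * h⁻¹ = x := by
  haveI : Fact (Nat.Prime 2) := ⟨Nat.prime_two⟩
  set X := centralizer ({s} : Set G) with hX
  set TX : Sylow 2 ↥X := T.subtype (fun y hy => mem_centralizer_singleton_iff.2 (D.comm_T S hy).eq)
  obtain ⟨R, hR⟩ := (IsPGroup.of_card (G := zpowers (⟨x, mem_centralizer_singleton_iff.2 hxs.eq⟩ : ↥X)) (p := 2)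
    (n := 1) (by rw [Nat.card_zpowers, Subgroup.orderOf_mk, hx, pow_one])).exists_le_sylow
  obtain ⟨k, hk⟩ := MulAction.exists_smul_eq ↥X R TX
  have hmem : k * ⟨x, mem_centralizer_singleton_iff.2 hxs.eq⟩ * k⁻¹ ∈ (TX : Subgroup ↥X) := by
    rw [← hk, Sylow.coe_subgroup_smul]
    exact ⟨_, hR (mem_zpowers _), rfl⟩
  have hne : (k : G) * x * (k : G)⁻¹ ≠ 1 := fun e => by
    rw [mul_inv_eq_one, mul_eq_left] at e
    rw [e, orderOf_one] at hx
    omega
  obtain ⟨h, hhs, -, e⟩ := D.trans_s S _ (mem_subgroupOf.1 hmem :) hne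
  refine ⟨(k : G)⁻¹ * h,
    (show Commute (k : G) s from mem_centralizer_singleton_iff.1 k.2).inv_left.mul_left hhs, ?_⟩
  rw [show (k : G)⁻¹ * h * t * ((k : G)⁻¹ * h)⁻¹ = (k : G)⁻¹ * (h * t * h⁻¹) * k by group, e]
  simp [mul_assoc]

/-- The odd normal subgroups of the centralizer are in `⟨s⟩`. -/
theorem Data.core {L : Subgroup G} (hLs : ∀ y ∈ L, Commute y s) (hn : ∀ g, Commute g s → ∀ y ∈ L, g * y * g⁻¹ ∈ L)
    (hodd : Odd (Nat.card L)) (hsL : s ∈ L) : L ≤ zpowers s := by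
  classical
  have hoddL : ∀ y ∈ L, ¬ 2 ∣ orderOf y := fun y hy h2 =>
    hodd.not_two_dvd_nat (h2.trans (L.orderOf_dvd_natCard hy))
  have hoddy : ∀ y ∈ L, Odd (orderOf y) := fun y hy => hodd.of_dvd_nat (L.orderOf_dvd_natCard hy)
  -- the part centralizing `t`
  have ht : ∀ y ∈ L, Commute y t → y ∈ zpowers s := by
    intro y hy hyt
    have hyE := D.cfg.hyp.odd_mem_E (hoddy y hy) hyt
    refine D.mem_zpowers_of_cent hyE fun x hx => ?_
    obtain ⟨hxE, hxs⟩ := D.mem_fixG.1 hx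
    -- the commutators form an odd normal subgroup of the fixed group
    set N : Subgroup G := fixG f σ ⊓ (L ⊓ centralizer ({t} : Set G)) with hN
    have hbot : N = ⊥ := by
      obtain ⟨_, K, htK, hfK, hH⟩ := D.exists_fixHyp
      have hNK : N ≤ K := inf_le_left.trans hfK
      have h1 := hH.odd_normal (N := N.subgroupOf K) (fun v hv => mem_subgroupOf.2 (mem_subgroupOf.1 hv).1)
        (by rw [Nat.card_congr (subgroupOfEquivOfLe hNK).toEquiv]
            exact hodd.of_dvd_nat (card_dvd_of_le (inf_le_right.trans inf_le_left)))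
        (fun w hw v hv => by
          obtain ⟨hvF, hvL, hvt⟩ := (mem_subgroupOf.1 hv : _ ∈ N)
          have hw' : (w : G) ∈ fixG f σ := mem_subgroupOf.1 hw
          refine mem_subgroupOf.2 (mem_inf.2 ⟨mul_mem (mul_mem hw' hvF) (inv_mem hw'),
            mem_inf.2 ⟨hn w (D.mem_fixG.1 hw').2 v hvL, ?_⟩⟩)
          have hwt := (D.cfg.hyp.comm w (D.cfg.hyp.le (D.fixG_le hw'))).symm
          exact mem_centralizer_singleton_iff.2
            ((hwt.mul_left (show Commute (v : G) t from mem_centralizer_singleton_iff.1 hvt)).mul_left hwt.inv_left).eq)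
        (a := ⟨a, hfK S.aE⟩) (b := ⟨b, hfK S.bE⟩) (mem_subgroupOf.2 S.aE) (by rw [Subgroup.orderOf_mk, S.ao])
        (mem_subgroupOf.2 S.bE) (by rw [Subgroup.orderOf_mk, S.bo]) (fun e => S.ne (congrArg Subtype.val e))
        (Subtype.ext (S.tcomm a S.aT b S.bT).eq)
      refine eq_bot_iff.2 fun v hv => ?_
      have h2 : (⟨v, hNK hv⟩ : ↥K) ∈ N.subgroupOf K := mem_subgroupOf.2 hv
      rw [h1, mem_bot] at h2
      exact mem_bot.2 (congrArg Subtype.val h2)
    suffices hm : y * x * y⁻¹ * x⁻¹ ∈ N by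
      rw [hbot, mem_bot, mul_inv_eq_one, mul_inv_eq_iff_eq_mul] at hm
      exact hm
    have hyx : y * x * y⁻¹ * x⁻¹ ∈ fixG f σ := by
      refine D.mem_fixG.2 ⟨mul_mem (D.cfg.hyp.norm y hyE x hxE) (inv_mem hxE), ?_⟩
      exact (((hLs y hy).mul_left hxs).mul_left (hLs y hy).inv_left).mul_left hxs.inv_left
    refine mem_inf.2 ⟨hyx, mem_inf.2 ⟨?_, mem_centralizer_singleton_iff.2
      (D.cfg.hyp.comm _ (D.cfg.hyp.le (D.fixG_le hyx))).symm.eq⟩⟩
    rw [show y * x * y⁻¹ * x⁻¹ = y * (x * y⁻¹ * x⁻¹) by group]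
    exact mul_mem hy (hn x hxs _ (inv_mem hy))
  -- the parts centralizing the other involutions
  have hfix : ∀ x ∈ T, x ≠ 1 → Dihedral.fixed L x = zpowers s := by
    intro x hx hx1
    refine le_antisymm (fun y hy => ?_) (zpowers_le.2 (Dihedral.mem_fixed.2 ⟨hsL, ?_⟩))
    · obtain ⟨hyL, hyx⟩ := Dihedral.mem_fixed.1 hy
      obtain ⟨h, hhs, -, e⟩ := D.trans_s S x hx hx1
      have hc : Commute (h⁻¹ * y * h) t := by
        have h1 := (show Commute y x from (mul_inv_eq_iff_eq_mul.1 hyx).symm).map (MulAut.conj h⁻¹).toMonoidHom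
        rw [← e] at h1
        simpa [mul_assoc] using h1
      obtain ⟨i, hi⟩ := mem_zpowers_iff.1 (ht _ (by simpa using hn h⁻¹ hhs.inv_left y hyL) hc)
      refine mem_zpowers_iff.2 ⟨i, ?_⟩
      rw [show y = h * (h⁻¹ * y * h) * h⁻¹ by group, ← hi, (hhs.zpow_right i).eq, mul_inv_cancel_right]
    · rw [(D.comm_T S hx).eq, mul_inv_cancel_right]
  have hinv : ∀ x ∈ T, x * x = 1 → Dihedral.InvAct L x := fun x hx hxx =>
    ⟨fun y hy => hn x (D.comm_T S hx) y hy, fun y _ => by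
      rw [show x * (x * y * x⁻¹) * x⁻¹ = (x * x) * y * (x * x)⁻¹ by group, hxx]; group⟩
  have haa : a * a = 1 := by rw [← pow_two, ← S.ao, pow_orderOf_eq_one]
  have hformula := Dihedral.four_group_formula hoddL (hinv t S.tT D.cfg.hyp.tt) (hinv a S.aT haa) (fun y _ => by
    rw [show t * (a * y * a⁻¹) * t⁻¹ = (t * a) * y * (t * a)⁻¹ by group,
      show a * (t * y * t⁻¹) * a⁻¹ = (a * t) * y * (a * t)⁻¹ by group, (S.tcomm t S.tT a S.aT).eq])
  have ha1 : a ≠ 1 := fun e => by have := S.ao; rw [e, orderOf_one] at this; omega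
  have hta : t * a ≠ 1 := fun e => D.cfg.hyp.disj (D.cfg.hyp.le (D.fixG_le (by
    rw [eq_inv_of_mul_eq_one_left e]; exact inv_mem S.aE)))
  rw [hfix t S.tT D.cfg.hyp.t_ne, hfix a S.aT ha1, hfix (t * a) ((T : Subgroup G).mul_mem S.tT S.aT) hta] at hformula
  have hle : zpowers s ≤ Dihedral.fixed (zpowers s) a := zpowers_le.2 (Dihedral.mem_fixed.2 ⟨mem_zpowers s, by
    rw [(D.comm_T S S.aT).eq, mul_inv_cancel_right]⟩)
  rw [show Dihedral.fixed (zpowers s) a = zpowers s from le_antisymm inf_le_left hle, Nat.card_zpowers, D.s_ord]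
    at hformula
  have hpos := D.prime.pos
  have hLr : Nat.card L = r := by
    refine Nat.eq_of_mul_eq_mul_right (pow_pos hpos 2) ?_
    rw [hformula]; ring
  have hsle : zpowers s ≤ L := zpowers_le.2 hsL
  exact (eq_of_le_of_card_ge hsle (by rw [hLr, Nat.card_zpowers, D.s_ord])).ge

/-- An element normalizing `⟨s⟩` centralizes it. -/
theorem Data.norm_s {g : G} (hg : g * s * g⁻¹ ∈ zpowers s) : g * s * g⁻¹ = s := by
  obtain ⟨χ, hχ⟩ := D.cfg.exists_proj D.d_pos D.hF
  set x := g * t * g⁻¹ with hx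
  have hgs : Commute x (g * s * g⁻¹) := by
    have := D.s_comm_t.symm.map (MulAut.conj g).toMonoidHom
    simpa [hx] using this
  have hxo : orderOf x = 2 := by
    rw [hx, show g * t * g⁻¹ = (MulAut.conj g) t from rfl, MulEquiv.orderOf_eq, D.cfg.hyp.ord]
  have hxs : Commute x s := by
    -- `s` is a power of its conjugate
    obtain ⟨i, hi⟩ := mem_zpowers_iff.1 hg
    have hgen : s ∈ zpowers (g * s * g⁻¹) := by
      rw [eq_of_le_of_card_ge (zpowers_le.2 hg) (by
        rw [Nat.card_zpowers, Nat.card_zpowers, show g * s * g⁻¹ = (MulAut.conj g) s from rfl,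
          MulEquiv.orderOf_eq])]
      exact mem_zpowers s
    obtain ⟨j, hj⟩ := mem_zpowers_iff.1 hgen
    rw [← hj]
    exact hgs.zpow_right j
  obtain ⟨k, hks, hk⟩ := D.conj_cent S hxo hxs
  set g' := k⁻¹ * g with hg'
  have hg't : Commute g' t := by
    refine mul_inv_eq_iff_eq_mul.1 ?_
    rw [hg', show k⁻¹ * g * t * (k⁻¹ * g)⁻¹ = k⁻¹ * x * k by rw [hx]; group, ← hk]
    group
  obtain ⟨i, hi⟩ := mem_zpowers_iff.1 hg
  have hg's : g' * s * g'⁻¹ = s ^ i := by
    rw [hg', show k⁻¹ * g * s * (k⁻¹ * g)⁻¹ = k⁻¹ * (g * s * g⁻¹) * k by group, ← hi, mul_assoc,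
      ← (hks.zpow_right i).eq, inv_mul_cancel_left]
  obtain ⟨e, he, r'⟩ := D.cfg.hyp.split g' hg't
  have hes : e * s * e⁻¹ = s ^ i := by
    rcases r' with r' | r'
    · rw [← r', hg's]
    · have h1 : e = t * g' := by rw [r', ← mul_assoc, D.cfg.hyp.tt, one_mul]
      rw [h1, show t * g' * s * (t * g')⁻¹ = t * (g' * s * g'⁻¹) * t⁻¹ by group, hg's,
        ((D.s_comm_t.symm).zpow_right i).eq, mul_inv_cancel_right]
  have hχ1 : χ (⟨s, D.sE⟩ ^ i * (⟨s, D.sE⟩ : ↥E)⁻¹) = 1 := by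
    rw [show (⟨s, D.sE⟩ : ↥E) ^ i = ⟨e, he⟩ * ⟨s, D.sE⟩ * ⟨e, he⟩⁻¹ from Subtype.ext (by simp [hes]),
      map_mul, map_mul, map_mul, map_inv, map_inv, mul_inv_cancel_comm, mul_inv_cancel]
  have h1 : s ^ i * s⁻¹ = 1 := by
    refine D.eq_one_of_mem (by simpa using (hχ _).1 hχ1) ?_
    rw [← zpow_sub_one]
    exact D.zpow_pow _
  rw [← hi]
  exact mul_inv_eq_one.1 h1

end Cfsg.Lib.SylowAb
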