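import Cfsg.Agent.SylowAbelian.Frame
import Cfsg.Agent.SylowAbelian.Cases
import Cfsg.Agent.EqualOrder.Basic

/-!
The quotient of the centralizer of `s` by `⟨s⟩`.
-/

set_option autoImplicit false
set_option linter.unusedSectionVars false
set_option linter.style.haveILetI false

namespace Cfsg.Lib.SylowAb

open Subgroup Cfsg.Lib.Known.AutPSL2
open scoped Pointwise

universe u

variable {G : Type u} [Group G] [Finite G]

instance zpowers_normal_cent (s : G) :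
    ((zpowers s).subgroupOf (centralizer ({s} : Set G))).Normal :=
  ⟨fun x hx g => by
    obtain ⟨i, hi⟩ := mem_zpowers_iff.1 (mem_subgroupOf.1 hx)
    refine mem_subgroupOf.2 (mem_zpowers_iff.2 ⟨i, ?_⟩)
    show s ^ i = (g : G) * x * (g : G)⁻¹
    rw [← hi, ((show Commute (g : G) s from mem_centralizer_singleton_iff.1 g.2).zpow_right i).eq,
      mul_inv_cancel_right]⟩

/-- `C(s)/⟨s⟩`. -/
abbrev CQ (s : G) : Type u :=
  ↥(centralizer ({s} : Set G)) ⧸ (zpowers s).subgroupOf (centralizer ({s} : Set G))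

/-- The projection. -/
abbrev qmk (s : G) : ↥(centralizer ({s} : Set G)) →* CQ s :=
  QuotientGroup.mk' _

theorem qmk_eq {s : G} {x y : ↥(centralizer ({s} : Set G))} :
    qmk s x = qmk s y ↔ (x : G)⁻¹ * y ∈ zpowers s := by
  rw [QuotientGroup.mk'_apply, QuotientGroup.mk'_apply, QuotientGroup.eq, mem_subgroupOf]
  rfl

theorem qmk_one {s : G} {x : ↥(centralizer ({s} : Set G))} : qmk s x = 1 ↔ (x : G) ∈ zpowers s := by
  rw [QuotientGroup.mk'_apply, QuotientGroup.eq_one_iff, mem_subgroupOf]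

variable {t : G} {E E₀ : Subgroup G} {F : Type} [Field F] [Fintype F]
  {p : ℕ} [Fact p.Prime] [CharP F p] [Algebra (ZMod p) F]
  {f : ↥E₀ ≃* Matrix.ProjectiveSpecialLinearGroup (Fin 2) F} {σ : F ≃ₐ[ZMod p] F} {s : G} {r d : ℕ}
  (D : Data t E E₀ F p f σ s r d)
include D

theorem Data.cent_le_of_pgroup_quot {q : ℕ} (hq : q.Prime) {H : Subgroup (CQ s)} (hH : IsPGroup q ↥H)
    {x y : CQ s} (hx : x ∈ H) (hy : y ∈ H) : Commute x y := by
  haveI := Fact.mk hq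
  obtain ⟨P, hP⟩ := hH.exists_le_sylow
  obtain ⟨R, hR⟩ := Sylow.mapSurjective_surjective (f := qmk s) (QuotientGroup.mk'_surjective _) q P
  have hm : ∀ {z : CQ s}, z ∈ H → ∃ w ∈ (R : Subgroup _), qmk s w = z := fun {z} hz => by
    have h : z ∈ (P : Subgroup (CQ s)) := hP hz
    rw [← hR, Sylow.coe_mapSurjective] at h
    exact h
  obtain ⟨v, hv, rfl⟩ := hm hx
  obtain ⟨w, hw, rfl⟩ := hm hy
  have h : Commute v w := Subtype.ext
    (D.cfg.comm_of_pgroup hq (R.2.map (centralizer ({s} : Set G)).subtype) ⟨_, hv, rfl⟩ ⟨_, hw, rfl⟩).eq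
  exact h.map (qmk s)

theorem Data.card_quot : Nat.card ↥(centralizer ({s} : Set G)) = r * Nat.card (CQ s) := by
  rw [← ((zpowers s).subgroupOf (centralizer ({s} : Set G))).card_mul_index, index_eq_card,
    Nat.card_congr (subgroupOfEquivOfLe (zpowers_le.2 (mem_centralizer_singleton_iff.2 rfl))).toEquiv,
    Nat.card_zpowers, D.s_ord]

theorem Data.card_quot_lt : Nat.card (CQ s) < Nat.card G := by
  refine lt_of_lt_of_le ?_ (card_le_card_group (centralizer ({s} : Set G)))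
  rw [D.card_quot]
  exact lt_mul_left Nat.card_pos D.prime.one_lt

theorem Data.mem_s_of_E₀ {x : G} (hx : x ∈ E₀) (hxs : x ∈ zpowers s) : x = 1 := by
  obtain ⟨i, rfl⟩ := mem_zpowers_iff.1 hxs
  exact D.eq_one_of_mem hx (D.zpow_pow i)

variable {T : Sylow 2 G} {a b n : G} (S : AbCentMax.Sys t (fixG f σ) T a b n)
include S

theorem Data.T_le_cent : (T : Subgroup G) ≤ centralizer ({s} : Set G) := fun _ hx =>
  mem_centralizer_singleton_iff.2 (D.comm_T S hx).eq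

theorem Data.fix_le_cent : fixG f σ ≤ centralizer ({s} : Set G) := fun _ hx =>
  mem_centralizer_singleton_iff.2 (D.mem_fixG.1 hx).2.eq

/-- An element commuting with an involution of `T` modulo `⟨s⟩` commutes with it. -/
theorem Data.lift_comm {x z : ↥(centralizer ({s} : Set G))} (hz : (z : G) * z = 1)
    (h : Commute (qmk s x) (qmk s z)) : Commute (x : G) z := by
  have h1 : qmk s (z * x) = qmk s (x * z) := by rw [map_mul, map_mul, h.eq]
  obtain ⟨i, hi⟩ := mem_zpowers_iff.1 (qmk_eq.1 h1)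
  push_cast at hi
  have hzs : Commute (z : G) (s ^ i) :=
    (show Commute (z : G) s from mem_centralizer_singleton_iff.1 z.2).zpow_right i
  have hzi : (z : G)⁻¹ = z := inv_eq_of_mul_eq_one_right hz
  have he' : (x : G)⁻¹ * z * x = s ^ i * z := by
    rw [hi]
    simp [mul_assoc, hz, hzi]
  have hsq : s ^ i * (z : G) * (s ^ i * z) = 1 := by
    rw [← he', show (x : G)⁻¹ * z * x * ((x : G)⁻¹ * z * x) = (x : G)⁻¹ * ((z : G) * z) * x by group, hz]
    group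
  rw [hzs.mul_mul_mul_comm, hz, mul_one] at hsq
  have h2 : s ^ i = 1 := orderOf_eq_one_iff.1 (Nat.eq_one_of_dvd_coprimes
    ((Nat.coprime_primes D.prime Nat.prime_two).2 D.r_odd) (orderOf_dvd_of_pow_eq_one (D.zpow_pow i))
    (orderOf_dvd_of_pow_eq_one (by rw [pow_two, hsq])))
  rw [h2, one_mul] at he'
  show (x : G) * z = z * x
  nth_rw 1 [← he']
  group

/-- The Sylow 2-subgroup of the quotient. -/
noncomputable def Data.sylowQ : Sylow 2 (CQ s) :=
  haveI : Fact (Nat.Prime 2) := ⟨Nat.prime_two⟩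
  (T.subtype (D.T_le_cent S)).mapSurjective (f := qmk s) (QuotientGroup.mk'_surjective _)

theorem Data.mem_sylowQ {z : CQ s} :
    z ∈ D.sylowQ S ↔ ∃ x, ∃ hx : x ∈ (T : Subgroup G), qmk s ⟨x, D.T_le_cent S hx⟩ = z := by
  haveI : Fact (Nat.Prime 2) := ⟨Nat.prime_two⟩
  show z ∈ ((T.subtype (D.T_le_cent S) : Sylow 2 _) : Subgroup _).map (qmk s) ↔ _
  constructor
  · rintro ⟨y, hy, rfl⟩
    exact ⟨y, mem_subgroupOf.1 hy, rfl⟩
  · rintro ⟨x, hx, rfl⟩
    exact ⟨_, mem_subgroupOf.2 hx, rfl⟩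

theorem Data.T_inj {x : G} (hx : x ∈ T) (hxs : x ∈ zpowers s) : x = 1 := by
  obtain ⟨i, hi⟩ := mem_zpowers_iff.1 hxs
  refine orderOf_eq_one_iff.1 (Nat.eq_one_of_dvd_coprimes
    ((Nat.coprime_primes D.prime Nat.prime_two).2 D.r_odd |>.pow_right 3)
    (orderOf_dvd_of_pow_eq_one (hi ▸ D.zpow_pow i)) ?_)
  refine ((T : Subgroup G).orderOf_dvd_natCard hx).trans (dvd_of_eq ?_)
  rw [D.cfg.card_eight T]

theorem Data.cell : Cell (D.sylowQ S) (qmk s ⟨t, D.T_le_cent S S.tT⟩) := by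
  haveI : Fact (Nat.Prime 2) := ⟨Nat.prime_two⟩
  refine ⟨?_, ?_, (D.mem_sylowQ S).2 ⟨t, S.tT, rfl⟩, ?_, ?_, ?_⟩
  · rw [← D.cfg.card_eight T]
    refine (Nat.card_eq_of_bijective (fun x : ↥(T : Subgroup G) =>
      (⟨qmk s ⟨x, D.T_le_cent S x.2⟩, (D.mem_sylowQ S).2 ⟨x, x.2, rfl⟩⟩ : ↥(D.sylowQ S : Subgroup (CQ s))))
      ⟨fun x y e => ?_, fun z => ?_⟩).symm
    · have h := qmk_eq.1 (congrArg Subtype.val e)
      exact Subtype.ext (inv_mul_eq_one.1 (D.T_inj S ((T : Subgroup G).mul_mem ((T : Subgroup G).inv_mem x.2) y.2) h))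
    · obtain ⟨x, hx, e⟩ := (D.mem_sylowQ S).1 z.2
      exact ⟨⟨x, hx⟩, Subtype.ext e⟩
  · intro x hx y hy
    obtain ⟨v, hv, rfl⟩ := (D.mem_sylowQ S).1 hx
    obtain ⟨w, hw, rfl⟩ := (D.mem_sylowQ S).1 hy
    exact (show Commute (⟨v, _⟩ : ↥(centralizer ({s} : Set G))) ⟨w, _⟩ from
      Subtype.ext (S.tcomm v hv w hw).eq).map (qmk s)
  · refine orderOf_eq_prime ?_ fun e => D.cfg.hyp.t_ne (D.T_inj S S.tT (qmk_one.1 e))
    rw [← map_pow, show (⟨t, D.T_le_cent S S.tT⟩ : ↥(centralizer ({s} : Set G))) ^ 2 = 1 from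
      Subtype.ext (by simp [pow_two, D.cfg.hyp.tt]), map_one]
  · intro z hz hz1
    obtain ⟨x, hx, rfl⟩ := (D.mem_sylowQ S).1 hz
    obtain ⟨h, hhs, hhN, e⟩ := D.trans_s S x hx (fun e => hz1 (qmk_one.2 (by simp [e])))
    set hX : ↥(centralizer ({s} : Set G)) := ⟨h, mem_centralizer_singleton_iff.2 hhs.eq⟩
    refine ⟨qmk s hX, Cfsg.Lib.ZStarApps.mem_normalizer_of_maps fun v hv => ?_, ?_⟩
    · obtain ⟨w, hw, rfl⟩ := (D.mem_sylowQ S).1 hv
      refine (D.mem_sylowQ S).2 ⟨h * w * h⁻¹, (mem_normalizer_iff.1 hhN w).1 hw, ?_⟩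
      rw [← map_inv, ← map_mul, ← map_mul]
      rfl
    · rw [← map_inv, ← map_mul, ← map_mul]
      congr 1
      exact Subtype.ext e
  · intro L hL hodd
    set L₁ := L.comap (qmk s) with hL₁
    set L₂ : Subgroup G := L₁.map (centralizer ({s} : Set G)).subtype with hL₂
    have hoddL : Odd (Nat.card L₂) := by
      rw [hL₂, card_map_of_injective (centralizer ({s} : Set G)).subtype_injective, hL₁,
        show qmk s = QuotientGroup.mk' _ from rfl, EqualOrder.card_comap_mk,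
        Nat.card_congr (subgroupOfEquivOfLe (zpowers_le.2 (mem_centralizer_singleton_iff.2 rfl))).toEquiv,
        Nat.card_zpowers, D.s_ord]
      first
        | exact (D.prime.odd_of_ne_two D.r_odd).mul hodd
        | exact hodd.mul (D.prime.odd_of_ne_two D.r_odd)
    have hle := D.core S (L := L₂) (fun y hy => by
        obtain ⟨w, -, rfl⟩ := hy
        exact mem_centralizer_singleton_iff.1 w.2) (fun g hg y hy => by
        obtain ⟨w, hw, rfl⟩ := hy
        exact ⟨⟨g, mem_centralizer_singleton_iff.2 hg.eq⟩ * w * ⟨g, mem_centralizer_singleton_iff.2 hg.eq⟩⁻¹,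
          (inferInstance : L₁.Normal).conj_mem w hw _, rfl⟩) hoddL
        ⟨⟨s, mem_centralizer_singleton_iff.2 rfl⟩, by
          rw [SetLike.mem_coe, hL₁, mem_comap, qmk_one.2 (mem_zpowers s)]; exact one_mem _, rfl⟩
    refine eq_bot_iff.2 fun z hz => ?_
    obtain ⟨w, rfl⟩ := QuotientGroup.mk'_surjective _ z
    exact mem_bot.2 (qmk_one.2 (hle ⟨w, hz, rfl⟩))

/-- The elements of `E` centralizing `s`, in the quotient. -/
def imE (E : Subgroup G) (s : G) : Subgroup (CQ s) :=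
  (E.subgroupOf (centralizer ({s} : Set G))).map (qmk s)

theorem Data.fix_inj {x : G} (hx : x ∈ fixG f σ) (hxs : x ∈ zpowers s) : x = 1 :=
  D.mem_s_of_E₀ (D.fixG_le hx) hxs

/-- The configuration of the quotient. -/
theorem Data.hypQ : ∃ (_ : Fintype (fixF p σ)),
    AbCentMax.Hyp (qmk s ⟨t, D.T_le_cent S S.tT⟩) (imE E s) (imE (fixG f σ) s) (fixF p σ) := by
  classical
  refine ⟨Fintype.ofFinite _, ?_⟩
  letI := Fintype.ofFinite (fixF p σ)
  obtain ⟨g⟩ := D.fixG_iso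
  have hsE : ∀ {x : G}, x ∈ zpowers s → x ∈ E := fun {x} hx => zpowers_le.2 D.sE hx
  refine ⟨(D.cell S).ord, ?_, ?_, ?_, ?_, ?_, ?_, ?_, ?_⟩
  · rintro _ ⟨e, he, rfl⟩
    exact (show Commute (⟨t, D.T_le_cent S S.tT⟩ : ↥(centralizer ({s} : Set G))) e from
      Subtype.ext (D.cfg.hyp.comm e (mem_subgroupOf.1 he)).eq).map (qmk s)
  · intro z hz
    obtain ⟨x, rfl⟩ := QuotientGroup.mk'_surjective _ z
    have hc := D.lift_comm S (x := x) (z := ⟨t, D.T_le_cent S S.tT⟩) D.cfg.hyp.tt hz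
    obtain ⟨e, he, r'⟩ := D.cfg.hyp.split x hc
    have heX : e ∈ centralizer ({s} : Set G) := by
      rcases r' with r' | r'
      · exact r' ▸ x.2
      · rw [show e = t * x by rw [r', ← mul_assoc, D.cfg.hyp.tt, one_mul]]
        exact mul_mem (D.T_le_cent S S.tT) x.2
    refine ⟨qmk s ⟨e, heX⟩, ⟨_, mem_subgroupOf.2 he, rfl⟩, ?_⟩
    rw [← map_mul]
    exact r'.imp (fun r' => congrArg (qmk s) (Subtype.ext r')) fun r' => congrArg (qmk s) (Subtype.ext r')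
  · rintro ⟨e, he, h⟩
    refine D.cfg.hyp.disj ?_
    have h2 := hsE (qmk_eq.1 h)
    simpa using mul_mem (mem_subgroupOf.1 he) h2
  · exact map_mono (fun v hv => mem_subgroupOf.2 (D.cfg.hyp.le (D.fixG_le (mem_subgroupOf.1 hv))))
  · rintro _ ⟨e, he, rfl⟩ _ ⟨x, hx, rfl⟩
    refine ⟨e * x * e⁻¹, mem_subgroupOf.2 (D.mem_fixG.2 ⟨D.cfg.hyp.norm e (mem_subgroupOf.1 he) x
      (D.fixG_le (mem_subgroupOf.1 hx)), ?_⟩), by simp⟩
    exact mem_centralizer_singleton_iff.1 (e * x * e⁻¹).2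
  · rintro _ ⟨e, he, rfl⟩ hall
    refine qmk_one.2 (D.mem_zpowers_of_cent (mem_subgroupOf.1 he) fun x hx => ?_)
    have hxX := D.fix_le_cent S hx
    have h := hall _ ⟨⟨x, hxX⟩, mem_subgroupOf.2 hx, rfl⟩
    have h1 : qmk s (⟨x, hxX⟩ * e) = qmk s (e * ⟨x, hxX⟩) := by rw [map_mul, map_mul, h.eq]
    have h2 := qmk_eq.1 h1
    push_cast at h2
    have h3 : ((x : G) * e)⁻¹ * (e * x) ∈ E₀ := by
      rw [show ((x : G) * e)⁻¹ * ((e : G) * x) = (e : G)⁻¹ * x⁻¹ * (e : G) * x by group]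
      exact mul_mem (D.cfg.hyp.norm' (mem_subgroupOf.1 he) (inv_mem (D.fixG_le hx))) (D.fixG_le hx)
    exact (inv_mul_eq_one.1 (D.mem_s_of_E₀ h3 h2)).symm
  · rw [← Nat.card_eq_fintype_card, Nat.odd_iff]
    have := D.fix_mod
    have := D.cfg.modq
    omega
  · have hinj : Function.Injective ((qmk s).comp (inclusion (D.fix_le_cent S))) :=
      (injective_iff_map_eq_one _).2 fun x hx => Subtype.ext (D.fix_inj S x.2 (qmk_one.1 hx))
    have hr : ((qmk s).comp (inclusion (D.fix_le_cent S))).range = imE (fixG f σ) s := by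
      ext z
      constructor
      · rintro ⟨x, rfl⟩
        exact ⟨_, mem_subgroupOf.2 x.2, rfl⟩
      · rintro ⟨x, hx, rfl⟩
        exact ⟨⟨(x : G), mem_subgroupOf.1 hx⟩, rfl⟩
    exact ⟨((MulEquiv.subgroupCongr hr).symm.trans (MonoidHom.ofInjective hinj).symm).trans g⟩

/-- The frame of the quotient. -/
theorem Data.sysQ : ∃ a' b' n' : CQ s,
    AbCentMax.Sys (qmk s ⟨t, D.T_le_cent S S.tT⟩) (imE (fixG f σ) s) (D.sylowQ S) a' b' n' ∧
      n' ∈ normalizer ((D.sylowQ S : Subgroup (CQ s)) : Set (CQ s)) := by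
  haveI : Fact (Nat.Prime 2) := ⟨Nat.prime_two⟩
  have hle := D.fix_le_cent S
  have hord : ∀ {x : G} (hx : x ∈ fixG f σ), orderOf (qmk s ⟨x, hle hx⟩) = orderOf x := fun {x} hx => by
    rw [← orderOf_injective ((qmk s).comp (inclusion hle)) ((injective_iff_map_eq_one _).2 fun x hx =>
      Subtype.ext (D.fix_inj S x.2 (qmk_one.1 hx))) ⟨x, hx⟩ |>.trans (Subgroup.orderOf_mk x hx)]
    rfl
  have hnE := S.nE
  refine ⟨qmk s ⟨a, hle S.aE⟩, qmk s ⟨b, hle S.bE⟩, qmk s ⟨n, hle S.nE⟩,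
    ⟨(D.cell S).tT, (D.cell S).tcomm, ⟨_, mem_subgroupOf.2 S.aE, rfl⟩, ⟨_, mem_subgroupOf.2 S.bE, rfl⟩,
      ⟨_, mem_subgroupOf.2 S.nE, rfl⟩, by rw [hord S.aE, S.ao], by rw [hord S.bE, S.bo], fun e => ?_,
      (D.mem_sylowQ S).2 ⟨a, S.aT, rfl⟩, (D.mem_sylowQ S).2 ⟨b, S.bT, rfl⟩, ?_, ?_, ?_, by rw [hord S.nE, S.no]⟩,
    ?_⟩
  · exact S.ne (inv_mul_eq_one.1 (D.fix_inj S (mul_mem (inv_mem S.aE) S.bE) (qmk_eq.1 e)))
  · intro z hz
    obtain ⟨x, hx, rfl⟩ := (D.mem_sylowQ S).1 hz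
    obtain ⟨v, hv, r'⟩ := S.cases x hx
    have hvX : v ∈ centralizer ({s} : Set G) := by
      rcases hv with rfl | rfl | rfl | rfl
      · exact one_mem _
      · exact hle S.aE
      · exact hle S.bE
      · exact mul_mem (hle S.aE) (hle S.bE)
    refine ⟨qmk s ⟨v, hvX⟩, ?_, ?_⟩
    · rcases hv with rfl | rfl | rfl | rfl
      · exact Or.inl (map_one (qmk s))
      · exact Or.inr (Or.inl rfl)
      · exact Or.inr (Or.inr (Or.inl rfl))
      · exact Or.inr (Or.inr (Or.inr (map_mul (qmk s) ⟨a, hle S.aE⟩ ⟨b, hle S.bE⟩)))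
    · rw [← map_mul]
      exact r'.imp (fun r' => congrArg (qmk s) (Subtype.ext r')) fun r' => congrArg (qmk s) (Subtype.ext r')
  · rw [← map_inv, ← map_mul, ← map_mul]
    exact congrArg (qmk s) (Subtype.ext S.na)
  · rw [← map_inv, ← map_mul, ← map_mul, ← map_mul]
    exact congrArg (qmk s) (Subtype.ext S.nb)
  · refine Cfsg.Lib.ZStarApps.mem_normalizer_of_maps fun v hv => ?_
    obtain ⟨w, hw, rfl⟩ := (D.mem_sylowQ S).1 hv
    refine (D.mem_sylowQ S).2 ⟨n * w * n⁻¹, (mem_normalizer_iff.1 (D.n_norm S) w).1 hw, ?_⟩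
    rw [← map_inv, ← map_mul, ← map_mul]
    rfl

end Cfsg.Lib.SylowAb
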